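import Cfsg.Agent.Gate.S1221
import Cfsg.Agent.Bender.Main

set_option autoImplicit false
open Cfsg Cfsg.Agent Cfsg.Lib Cfsg.Lib.Local Cfsg.Lib.Bender Cfsg.Lib.Chev.RankOne

/-- S1221, conditional on the listed gates. -/
theorem Cfsg.Agent.Cond.S1221.{u} [Gate.BenderCore.{u}] [Gate.S1136.{u, u}] : Gate.S1221.{u} := ⟨by
  intro G _ _ H hH
  refine (core_of_gate _).le_oddCore (isStronglyEmbedded_iff_se.1 hH) (Subgroup.map_subtype_le _)
    (Nat.coprime_two_right.1 (Solv.coprime_card_map_pPrimeCore 2 H)) ?_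
  rintro h hh _ ⟨n, hn, rfl⟩
  exact ⟨⟨h, hh⟩ * n * ⟨h, hh⟩⁻¹, (inferInstance : (oddCore H).Normal).conj_mem n hn _, rfl⟩⟩
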