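import Cfsg.Agent.Gate.S1674
import Cfsg.Agent.Gate.S1701
import Cfsg.Agent.HN.Final

set_option autoImplicit false
open Cfsg Cfsg.Agent

/-- S1674, conditional on the listed gates (universe list must stay the statement's own). -/
theorem Cfsg.Agent.Cond.S1674.{u} [Gate.S1701] : Gate.S1674.{u} := ⟨by
  intro G _ _ _ t ht M _ hM hout hcov
  have := Gate.S1701.out.1
  exact Lib.HN.Hyp.isoHN ⟨t, M, ht, hM, hout, hcov⟩⟩
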