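import Cfsg.Agent.Gate.S3261
import Cfsg.Agent.Gate.S0848
import Cfsg.Agent.Local.D8Cent
import Cfsg.Agent.S0495
import Cfsg.Agent.S0497

set_option autoImplicit false
open Cfsg Cfsg.Agent

/-- S3261, conditional on the listed gates (universe list must stay the statement's own). -/
theorem Cfsg.Agent.Cond.S3261.{u} [Gate.S0848.{u}] : Gate.S3261.{u} := ⟨by
  -- binders: G hG αt hαt hsupp α hα S hαS hαc e (plus anonymous instances)
  intro G _ _ hG αt hαt _ α hα S _ hαc e
  obtain ⟨e'⟩ := Lib.Local.nonempty_centralizer_A6 αt hαt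
  haveI := Lib.Local.d8_simple (e.trans e') hG hα S hαc
  haveI : Fact (Nat.Prime 7) := ⟨by decide⟩
  rcases Gate.S0848.out (Lib.Local.d8_perfect (e.trans e') hG hα S hαc) α hα (e.trans e') with h | h
  · exact Or.inr ⟨ZMod 7, inferInstance, inferInstance, ZMod.card 7, S0495.result h (ZMod.card 7)⟩
  · exact Or.inl (S0497.result h)⟩
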