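import Cfsg.Agent.Gate.NgMain
import Cfsg.Agent.Gate.NgChar2
import Cfsg.Agent.Gate.NgSD
import Cfsg.Agent.Gate.NgWr
import Cfsg.Agent.Gate.NgAmalgam
import Cfsg.Agent.Gate.S0483
import Cfsg.Agent.Gate.S0486
import Cfsg.Agent.Gate.S0516
import Cfsg.Agent.Gate.S2916
import Cfsg.Agent.Bender.Main
import Cfsg.Agent.Class.FieldIso
import Cfsg.Agent.Ngrp.AsmBasic

set_option autoImplicit false
open Cfsg Cfsg.Agent Cfsg.Lib Cfsg.Lib.Local Cfsg.Lib.Bender Cfsg.Lib.Ngrp Cfsg.Lib.Class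

/-- The simple groups with solvable 2-local subgroups, conditional on the listed gates. -/
theorem Cfsg.Agent.Cond.NgMain.{u} [Gate.S0205.{u}] [Gate.BenderCore.{u}] [Gate.S1136.{u, u}]
    [Gate.S0516.{u, 0}] [Gate.S0483.{u}] [Gate.S0486.{u, 0}] [Gate.S2916.{u}] [Gate.NgSD.{u}]
    [Gate.NgWr.{u}] [Gate.NgChar2.{u}] [Gate.NgAmalgam.{u}] : Gate.NgMain.{u} := ⟨by
  intro G _ _ _ hna hL
  have hC := isSolvable_centralizer_of_twoLocal hL
  by_cases hSE : ∃ H : Subgroup G, IsStronglyEmbedded H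
  · obtain ⟨H, hH⟩ := hSE
    rcases ((core_of_gate G).simple (isStronglyEmbedded_iff_se.1 hH)).1 with
      ⟨F, i1, i2, ⟨n, hn, hF⟩, e⟩ | h | ⟨F, i1, i2, n, hn, hF, e⟩
    · exact Or.inl ⟨F, i1, i2, hF ▸ four_le_two_pow hn, e⟩
    · exact Or.inr (Or.inl h)
    · exact Or.inr (Or.inr (Or.inl ⟨F, i1, i2, 2 ^ n, hF, Nat.even_pow.2 ⟨even_two, by omega⟩,
        four_le_two_pow hn, e⟩))
  by_cases hr : PRankLE 2 2 G
  swap
  · rcases Gate.NgAmalgam.out hna hL ((Gate.NgChar2.out hna hC hr).resolve_left hSE) hr with h | h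
    · exact absurd h hSE
    · exact Or.inr (Or.inr (Or.inr (Or.inr (Or.inr (Or.inr (Or.inr h))))))
  obtain ⟨S⟩ : Nonempty (Sylow 2 G) := inferInstance
  haveI : Fintype (GaloisField 2 4) := Fintype.ofFinite _
  have hF : Fintype.card (GaloisField 2 4) = 16 := by
    rw [← Nat.card_eq_fintype_card, GaloisField.card 2 4 (by norm_num)]; norm_num
  obtain ⟨P⟩ : Nonempty (Sylow 2 (PSU 3 (GaloisField 2 4) 4)) := inferInstance
  rcases Gate.S0516.out hna hr S hF P with ⟨n, hn, h⟩ | h | h | h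
  · have := isPerfect_of_simple hna
    have hO : oddCore G = ⊥ :=
      oddCore_eq_bot_of_simple (even_card_of_not_isSolvable (not_isSolvable_of_simple hna))
    have e : G ≃* G ⧸ oddCore G :=
      QuotientGroup.quotientBot.symm.trans (QuotientGroup.quotientMulEquivOfEq hO.symm)
    rcases Gate.S0483.out S n hn h with ⟨F, i1, i2, -, h3, ⟨f⟩⟩ | ⟨⟨f⟩⟩
    · exact Or.inl ⟨F, i1, i2, h3, ⟨e.trans f⟩⟩
    · exact Or.inr (Or.inr (Or.inr (Or.inr (Or.inr (Or.inl ⟨e.trans f⟩)))))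
  · obtain ⟨t, ht, hG⟩ := Gate.NgSD.out S h hC
    rcases Gate.S2916.out (pResidual_eq_top_of_simple hna 2) t ht hG with ⟨F, i1, i2, h3, ⟨f⟩⟩ | h
    · obtain ⟨e⟩ := nonempty_ringEquiv_zmod Nat.prime_three h3
      exact Or.inr (Or.inr (Or.inr (Or.inl ⟨f.trans (pslEquiv _ e)⟩)))
    · exact Or.inr (Or.inr (Or.inr (Or.inr (Or.inr (Or.inr (Or.inl h))))))
  · exact Or.inr (Or.inr (Or.inr (Or.inr (Or.inl (Gate.NgWr.out S h hC)))))
  · exact Or.inr (Or.inr (Or.inl ⟨GaloisField 2 4, inferInstance, inferInstance, 4, hF, by decide,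
      le_rfl, Gate.S0486.out hF S P h⟩))⟩
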