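import Cfsg.Agent.Gate.NgAmalgam
import Cfsg.Agent.Gate.NgNat
import Cfsg.Agent.Gate.NgT2
import Cfsg.Agent.Gate.NgT3
import Cfsg.Agent.Gate.NgM12
import Cfsg.Agent.Gate.NgTits
import Cfsg.Agent.Ngrp.AsmBasic

set_option autoImplicit false
open Cfsg Cfsg.Agent Cfsg.Lib Cfsg.Lib.Ngrp

/-- The amalgam step, conditional on its five parts. -/
theorem Cfsg.Agent.Cond.NgAmalgam.{u} [Gate.NgNat.{u}] [Gate.NgT2.{u}] [Gate.NgT3.{u}]
    [Gate.NgM12.{u}] [Gate.NgTits.{u}] : Gate.NgAmalgam.{u} := ⟨by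
  intro G _ _ _ hna hL hc hr
  by_cases hSE : ∃ H : Subgroup G, IsStronglyEmbedded H
  · exact Or.inl hSE
  right
  obtain ⟨S, z, Y, h⟩ := Gate.NgNat.out hna ⟨hc, hL⟩ hr hSE
  have h2 : ∀ H : Subgroup G, H.index ≠ 2 := by
    intro H hH
    rcases (Subgroup.normal_of_index_eq_two hH).eq_bot_or_eq_top with rfl | rfl
    · rw [Subgroup.index_bot] at hH
      have : IsCyclic G := isCyclic_of_prime_card (p := 2) hH
      exact hna IsCyclic.isMulCommutative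
    · simp at hH
  have hU := Gate.NgT2.out h h2 hr
  obtain ⟨h3, ⟨h8, hC⟩ | ⟨h32, hC⟩⟩ := Gate.NgT3.out h hU
  · exact (Gate.NgM12.out h3 h2 h8 hC).elim
  · obtain ⟨h4, h5⟩ := Gate.NgTits.out h3 h32 hC
    refine ⟨h4, h5, fun hr4 => ?_⟩
    have := hr4 _ hU.1 hU.2
    omega⟩
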