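import Cfsg.Agent.Gate.NgChar2
import Cfsg.Agent.Ngrp.Dichotomy

set_option autoImplicit false
open Cfsg Cfsg.Agent Cfsg.Lib Cfsg.Lib.Ngrp Cfsg.Lib.Local
open scoped commutatorElement

theorem Cfsg.Agent.Cond.NgChar2.{u} [Gate.S0217.{u}] : Gate.NgChar2.{u} := ⟨by
  intro G _ _ _ hna hs hr
  have hG : ConC G := SolvC.conC hs
  have hc : commutator G = ⊤ := (IsSimpleGroup.eq_bot_or_eq_top_of_normal _ inferInstance).resolve_left
    fun h => hna ⟨⟨fun a b => by
      have : ⁅a, b⁆ ∈ commutator G :=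
        Subgroup.commutator_mem_commutator (Subgroup.mem_top a) (Subgroup.mem_top b)
      rw [h, Subgroup.mem_bot, commutatorElement_eq_one_iff_mul_comm] at this
      exact this⟩⟩
  obtain ⟨S, z, e, h⟩ := exists_nFour hr
  have h2 : 2 ∣ Nat.card G := h.z2 ▸ orderOf_dvd_natCard z
  rcases hG.dichotomy (fun w _ => by simp [hc]) hr with h1 | ⟨W, -, h1⟩
  · refine Or.inr (hG.charTwoType (even_iff_two_dvd.2 h2) fun t ht => ?_)
    have h3 : pPrimeCore 2 G = ⊥ :=
      (IsSimpleGroup.eq_bot_or_eq_top_of_normal _ inferInstance).resolve_right fun h4 => by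
        have := Solv.coprime_card_pPrimeCore 2 G
        rw [h4, Subgroup.card_top] at this
        exact (Nat.Prime.coprime_iff_not_dvd Nat.prime_two).1 this.symm h2
    exact le_bot_iff.1 (h3 ▸ h1 t ht)
  · exact Or.inl ⟨_, isStronglyEmbedded_iff_se.2 h1⟩⟩
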