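import Cfsg.Agent.Gate.S1296
import Cfsg.Agent.Sig2.Final

set_option autoImplicit false
open Cfsg Cfsg.Agent Cfsg.Lib Cfsg.Lib.Trans Cfsg.Lib.Sig2

/-- S1296, conditional on the listed gates. -/
theorem Cfsg.Agent.Cond.S1296.{u} [Gate.S0217.{u}] [Gate.S0205.{u}] [Gate.BenderCore.{u}]
    [Gate.S1136.{u, u}] : Gate.S1296.{u} := ⟨by
  intro G _ _ he hO2 hO
  by_cases h3 : PRankLE 2 2 G
  · exact Or.inl h3
  by_cases hc : IsComponentType G
  · exact Or.inr (Or.inl hc)
  have hc' := constr_of_not_isComponentType hc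
  exact Or.inr (Or.inr (isCharacteristicTwoType_of_th hc' he fun t ht => le_bot_iff.1 (hO ▸
    th_le_oddCore_of_no_index_two hc' h3
      (fun N hN => hO2 N (Subgroup.normal_of_index_eq_two hN) hN) ht)))⟩
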