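import Cfsg.Agent.Gate.S2202
import Cfsg.Agent.CITCor.L2Even

set_option autoImplicit false
open Cfsg Cfsg.Agent

open Cfsg.Lib Cfsg.Lib.CITCor

/-- S2202, conditional on the listed gates. -/
theorem Cfsg.Agent.Cond.S2202.{u} [Gate.BenderCore.{u}] [Gate.S1136.{u, u}] : Gate.S2202.{u} := ⟨by
  intro G _ _ _ h
  have hA : AbCent G := abCent_iff.2 h
  by_cases hS : ∀ P : Sylow 2 G, (P : Subgroup G).Normal
  · exact Or.inr (Or.inl hS)
  obtain ⟨S, hS⟩ := not_forall.1 hS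
  by_cases h2 : Chev.RankOne.TwoRank G
  swap
  · exact Or.inl fun P => isCyclic_of_not_twoRank h2 P.2 fun _ ha _ hb =>
      hA.comm_of_isPGroup P.2 ha hb
  have hL := hA.isL2Even_quotient S hS h2
  obtain ⟨e⟩ := hA.nonempty_equiv_prod S hS h2 hL
  have hZ := hA.oddCore_le_center S hS h2 hL
  obtain ⟨F, i1, i2, n, hn, hF, -, hc, ⟨f⟩⟩ := hL.exists_SL2
  let e' : Shrink.{0} (oddCore G) ≃* oddCore G := Shrink.mulEquiv
  let i3 : CommGroup (Shrink.{0} (oddCore G)) :=
    { (inferInstance : Group (Shrink.{0} (oddCore G))) with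
      mul_comm := fun a b => e'.injective (by
        rw [map_mul, map_mul]
        exact Subtype.ext (Subgroup.mem_center_iff.1 (hZ (e' b).2) _)) }
  refine Or.inr (Or.inr ⟨F, i1, i2, Shrink.{0} (oddCore G), i3, Finite.of_equiv _ e'.symm.toEquiv,
    hc, ?_, ⟨e.trans (f.prodCongr e'.symm)⟩⟩)
  rw [Nat.card_congr e'.toEquiv]
  exact Solv.odd_card_oddCore G⟩
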