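import Cfsg.Agent.Gate.AschLin
import Cfsg.Agent.Class.Asch.Linear

set_option autoImplicit false

theorem Cfsg.Agent.Cond.AschLin.{u} : Cfsg.Agent.Gate.AschLin.{u} :=
  ⟨fun hn H => Cfsg.Lib.Class.Asch.linCase hn H⟩
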