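import Cfsg.Agent.Gate.AschSp
import Cfsg.Agent.Class.Asch.Symp

set_option autoImplicit false

theorem Cfsg.Agent.Cond.AschSp.{u} : Cfsg.Agent.Gate.AschSp.{u} :=
  ⟨fun _ hf hn _ hH => Cfsg.Lib.Class.Asch.spCase hf (by omega) hH⟩
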