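import Cfsg.Agent.Gate.MinSimple
import Cfsg.Agent.Gate.NgMain
import Cfsg.Agent.Ngrp.AsmFacts
import Cfsg.Agent.S0810

set_option autoImplicit false
open Cfsg Cfsg.Agent Cfsg.Lib Cfsg.Lib.Ngrp

/-- The list of the minimal simple groups, conditional on the listed gate. -/
theorem Cfsg.Agent.Cond.MinSimple.{u} [Gate.NgMain.{u}] : Gate.MinSimple.{u} := ⟨by
  intro G _ _ hG
  have := hG.1
  rcases Gate.NgMain.out hG.2.1 (IsNGroup.twoLocal (IsMinimalSimple.isNGroup hG)) with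
    ⟨F, i1, i2, -, ⟨e⟩⟩ | ⟨F, i1, i2, m, hm, hF, ⟨e⟩⟩ | ⟨F, i1, i2, q, hF, -, hq, ⟨e⟩⟩ | h |
    ⟨F, i1, i2, hF, ⟨e⟩⟩ | ⟨⟨e⟩⟩ | ⟨⟨e⟩⟩ | ⟨-, ⟨H, hH, h⟩, -⟩
  · rcases (S0810.result rfl).1 (IsMinimalSimple.congr hG e) with
      ⟨r, hr, h⟩ | ⟨r, hr, h2, h⟩ | ⟨h1, h2⟩ | h
    · exact Or.inl ⟨r, hr, F, i1, i2, h, ⟨e⟩⟩
    · exact Or.inr (Or.inl ⟨r, hr, h2, F, i1, i2, h, ⟨e⟩⟩)
    · exact Or.inr (Or.inr (Or.inl ⟨_, h1, Or.inr h2, F, i1, i2, rfl, ⟨e⟩⟩))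
    · exact Or.inr (Or.inr (Or.inl ⟨5, by norm_num, Or.inl rfl, F, i1, i2, h, ⟨e⟩⟩))
  · exact Or.inr (Or.inr (Or.inr (Or.inr ⟨F, i1, i2, m, hm,
      prime_of_isMinimalSimple_sz hm hF (IsMinimalSimple.congr hG e), hF, ⟨e⟩⟩)))
  · exact absurd (IsMinimalSimple.isNGroup (IsMinimalSimple.congr hG e)) (not_isNGroup_psu3 hF hq)
  · exact Or.inr (Or.inr (Or.inr (Or.inl h)))
  · exact absurd (IsMinimalSimple.congr hG e) (not_isMinimalSimple_psu33 hF)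
  · exact absurd (IsMinimalSimple.congr hG e) not_isMinimalSimple_A7
  · exact absurd (IsMinimalSimple.congr hG e) not_isMinimalSimple_M11
  · exact absurd (hG.2.2 H hH) h⟩
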