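import Cfsg.Agent.Gate.NgM12
import Cfsg.Agent.Ngrp.M12C

set_option autoImplicit false
open Cfsg Cfsg.Agent

theorem Cfsg.Agent.Cond.NgM12.{u} : Gate.NgM12.{u} :=
  ⟨fun h hG hU _ => Cfsg.Lib.Ngrp.M12.no_m12 h hG hU⟩
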