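import Cfsg.Agent.Gate.NgNat
import Cfsg.Agent.Ngrp.NatJ6
import Cfsg.Agent.Ngrp.NatE
import Cfsg.Agent.Ngrp.NatT2
import Cfsg.Agent.Ngrp.NatS3

set_option autoImplicit false
open Cfsg Cfsg.Agent Cfsg.Lib

theorem Cfsg.Agent.Cond.NgNat.{u} : Gate.NgNat.{u} :=
  ⟨fun hG ah hr hse => Ngrp.exists_natG hG ah hr hse fun _ _ _ h => h.natG (h.short h.tall)⟩
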