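import Cfsg.Agent.Gate.NgT2
import Cfsg.Agent.Ngrp.AmT2h

set_option autoImplicit false
open Cfsg Cfsg.Agent Cfsg.Lib

theorem Cfsg.Agent.Cond.NgT2.{u} : Gate.NgT2.{u} := ⟨fun h hG hr => Ngrp.T2.nat_t2 h hG hr⟩
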