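import Cfsg.Agent.Gate.NgT3
import Cfsg.Agent.Ngrp.AmOne

set_option autoImplicit false
open Cfsg Cfsg.Agent Cfsg.Lib

theorem Cfsg.Agent.Cond.NgT3.{u} : Gate.NgT3.{u} := ⟨fun h hU => Ngrp.Geo.nat_b3 h hU⟩
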