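import Cfsg.Agent.Gate.NgTits
import Cfsg.Agent.Ngrp.TitsA7
import Cfsg.Agent.Ngrp.TitsP1
import Cfsg.Agent.Ngrp.TitsX
import Cfsg.Agent.Ngrp.TitsWFive

set_option autoImplicit false
open Cfsg Cfsg.Agent Cfsg.Lib

theorem Cfsg.Agent.Cond.NgTits.{u} : Gate.NgTits.{u} := ⟨fun {G} _ _ _ _ z _ h hU hC => by
  obtain ⟨a, f, p, u, t, m, h1⟩ := Ngrp.Ti.exists_TC0 h hU
  obtain ⟨g, hg⟩ := h1.exists_TP
  rcases hg.cent with h2 | ⟨e, he⟩
  · exact hg.main h.ah h2
  · refine (hg.ext_false he fun H hH => ?_).elim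
    rcases (Subgroup.normal_of_index_eq_two hH).eq_bot_or_eq_top with rfl | rfl
    · have h3 := Subgroup.card_subgroup_dvd_card (Subgroup.centralizer ({z} : Set G))
      rw [Subgroup.index_bot] at hH
      rw [hC, hH] at h3
      exact absurd ((dvd_mul_right 20 _).trans h3) (by norm_num)
    · simp at hH⟩
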