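import Cfsg.Agent.Gate.NgWr
import Cfsg.Agent.Ngrp.WrFinal
import Cfsg.Agent.Rank2.WrGroup

set_option autoImplicit false
open Cfsg Cfsg.Agent Cfsg.Lib Cfsg.Lib.Ngrp Cfsg.Lib.Local Cfsg.Lib.Trans Cfsg.Lib.Rank2
  Cfsg.Lib.Block Cfsg.Lib.Class

theorem Cfsg.Agent.Cond.NgWr.{u} : Gate.NgWr.{u} := ⟨by
  intro G _ _ _ S hS hsol
  obtain ⟨m, -, ⟨F⟩⟩ := exists_wrFrame hS
  have hG : ∀ H : Subgroup G, H.index ≠ 2 :=
    index_ne_two_of_isSimpleGroup (x := (F.s 0 : G)) fun h => Wr.not_mem_center_s F 0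
      (Subgroup.mem_center_iff.2 fun g => Subtype.ext (Subgroup.mem_center_iff.1 h g))
  obtain ⟨F, hA⟩ := FusW.exists_adapted F (E := SylEmb.ofSylow S) hG
  have := hsol (U33.zz S F) (FusW.orderOf_zz F (SylEmb.ofSylow S))
  obtain rfl := (U33.map_vee_eq' S F hG).1
  obtain ⟨M, hM⟩ := Princ.exists_isPModular Nat.prime_two
  obtain ⟨D⟩ := U33.nonempty_loc S F hG
  have hK : Odd (Nat.card (ZMod 3)) := by rw [Nat.card_zmod]; decide
  obtain ⟨W, -, -, -, h1, h2⟩ := hA.exists_wrHyp hG hM hK D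
  have h3 : W.Q = -3 := by rw [h1, eps, Nat.card_zmod]; norm_num
  obtain ⟨χ, hχ, h7⟩ := W.exists_degree hM
  have h4 := W.order hM
  refine ⟨GF9, inferInstance, inferInstance, card_GF9,
    U33.nonempty_equiv_psu_of_chars S F hG hM hχ (by rw [h7, h3]; norm_num) ?_⟩
  have h5 : (Nat.card (FusW.CC F (SylEmb.ofSylow S)) : ℂ) ≠ 0 := Nat.cast_ne_zero.2 Nat.card_pos.ne'
  rw [h2, h3, div_mul_eq_mul_div, div_eq_iff (pow_ne_zero 3 h5), ← FusW.card_centralizer_four] at h4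
  change Nat.card G * Nat.card (Subgroup.centralizer (((Wr.four F).map (SylEmb.ofSylow S).j :
    Subgroup G) : Set G)) ^ 2 * 4 = Nat.card (FusW.CC F (SylEmb.ofSylow S)) ^ 3 * 7
  apply Nat.cast_injective (R := ℂ)
  push_cast at h4 ⊢
  linear_combination h4⟩
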