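import Cfsg.Agent.PG.OMain

set_option autoImplicit false
open Cfsg Cfsg.Agent

/-- `Gate.PGO`, conditional on the listed gates. -/
theorem Cfsg.Agent.Cond.PGO.{u} [Gate.PGD.{u}] [Gate.PGC.{u}] : Gate.PGO.{u} :=
  ⟨fun S _ h1 h2 h3 h4 => Cfsg.Lib.PG.pgo_aux _ _ _ S rfl h1 h2 h3 h4⟩
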