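import Cfsg.Agent.Gate.S0042
import Cfsg.Agent.Gate.S0108
import Cfsg.Agent.Solv.FpfThompson

set_option autoImplicit false
open Cfsg Cfsg.Agent

/-- S0042, conditional on Thompson's normal complement theorem. -/
theorem Cfsg.Agent.Cond.S0042.{u} [Gate.S0108.{u}] : Gate.S0042.{u} := ⟨by
  intro G _ _ H hH
  obtain ⟨N, h1, h2, -, -, -, h3⟩ := Cfsg.Lib.Solv.Fpf.exists_kernel hH
  exact ⟨N, h1, h2, h3⟩⟩
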