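import Cfsg.Agent.Gate.S0475
import Cfsg.Agent.Gate.S1700
import Cfsg.Agent.Spor.ThZ

set_option autoImplicit false
open Cfsg Cfsg.Agent Cfsg.Lib.Spor

theorem Cfsg.Agent.Cond.S0475 [Gate.S1700] : Gate.S0475 := ⟨by
  obtain ⟨h1, -, Q, h, h2, h3, -, e⟩ := ThU.Big.cent Gate.S1700.out.2.ge
  exact ⟨Cfsg.Spor.Th, inferInstance, ThU.finite_card_Th.1, Gate.S1700.out, _, h1, Q, h, h2, h3, e⟩⟩
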