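import Cfsg.Agent.Gate.S0487
import Cfsg.Agent.Gate.NgMain
import Cfsg.Agent.Bender.Groups
import Cfsg.Agent.Ngrp.AsmFacts

set_option autoImplicit false
open Cfsg Cfsg.Agent Cfsg.Lib Cfsg.Lib.Ngrp

/-- S0487, conditional on the listed gate. -/
theorem Cfsg.Agent.Cond.S0487.{u} [Gate.NgMain.{u}] : Gate.S0487.{u} := ⟨by
  intro G _ _ hs hG hN
  rcases Gate.NgMain.out hG (IsNGroup.twoLocal hN) with
    h | h | ⟨F, i1, i2, q, hF, -, hq, ⟨e⟩⟩ | h | h | h | ⟨⟨e⟩⟩ | ⟨h, -⟩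
  · exact Or.inl h
  · exact Or.inr (Or.inl (Bender.isSuzuki_of_isoSuzuki h))
  · exact absurd (IsNGroup.congr hN e) (not_isNGroup_psu3 hF hq)
  · haveI : Fact (Nat.Prime 3) := ⟨Nat.prime_three⟩
    exact Or.inr (Or.inr (Or.inl ⟨ZMod 3, inferInstance, inferInstance, ZMod.card 3, h⟩))
  · exact Or.inr (Or.inr (Or.inr (Or.inl h)))
  · exact Or.inr (Or.inr (Or.inr (Or.inr (Or.inl h))))
  · exact Or.inr (Or.inr (Or.inr (Or.inr (Or.inr (Or.inl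
      ⟨hs, (Nat.card_congr e.toEquiv).trans Spor.MP.card_M11⟩)))))
  · exact Or.inr (Or.inr (Or.inr (Or.inr (Or.inr (Or.inr ⟨hs, h⟩)))))⟩
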