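import Cfsg.Agent.Gate.S0488
import Cfsg.Agent.Gate.MinSimple
import Cfsg.Agent.Bender.Groups
import Cfsg.Agent.Chev.SuzukiCard
import Cfsg.Agent.Chev.SuzukiInst

set_option autoImplicit false
open Cfsg Cfsg.Agent Cfsg.Lib

/-- S0488, conditional on the listed gate. -/
theorem Cfsg.Agent.Cond.S0488.{u} [Gate.MinSimple.{u}] : Gate.S0488.{u} := ⟨by
  intro G _ _ hG
  rcases Gate.MinSimple.out hG with h | h | h | h | ⟨F, i1, i2, m, hm, hp, hF, ⟨e⟩⟩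
  · exact Or.inl h
  · exact Or.inr (Or.inl h)
  · exact Or.inr (Or.inr (Or.inl h))
  · haveI : Fact (Nat.Prime 3) := ⟨Nat.prime_three⟩
    exact Or.inr (Or.inr (Or.inr (Or.inl ⟨ZMod 3, inferInstance, inferInstance, ZMod.card 3, h⟩)))
  · refine Or.inr (Or.inr (Or.inr (Or.inr
      ⟨Bender.isSuzuki_of_isoSuzuki ⟨F, i1, i2, m, hm, hF, ⟨e⟩⟩, 2 * m + 1, hp, ?_⟩)))
    rw [Nat.card_congr e.toEquiv, (Chev.lieSzModel hm hF).card_G, hF]⟩
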