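import Cfsg.Agent.Gate.S0492
import Cfsg.Agent.Ngrp.ThreePrimes
import Cfsg.Agent.S0243

set_option autoImplicit false
open Cfsg Cfsg.Agent Cfsg.Lib.Ngrp

/-- S0492, conditional on the list of the minimal simple groups. -/
theorem Cfsg.Agent.Cond.S0492.{u} [Gate.S0488.{u}] : Gate.S0492.{u} := ⟨by
  intro G _ _ _ hG h3
  obtain ⟨H, N, hN, -, -, hS⟩ := exists_minimalSimple_section (G := G)
    fun h => hG ⟨⟨IsSimpleGroup.comm_iff_isSolvable.2 h⟩⟩
  have hsub := Nat.primeFactors_mono
    ((N.card_quotient_dvd_card).trans H.card_subgroup_dvd_card) Nat.card_pos.ne'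
  have key : ∀ s : Finset ℕ, (Nat.card (H ⧸ N)).primeFactors = s → s.card = 3 →
      (Nat.card G).primeFactors = s := fun s hs hc =>
    (Finset.eq_of_subset_of_card_le (hs ▸ hsub) (by omega)).symm
  obtain ⟨F, _, _, ⟨hF, ⟨e⟩⟩ | ⟨hF, ⟨e⟩⟩⟩ :=
    minimalSimple_three_primes hS ((Finset.card_le_card hsub).trans h3.le)
  · rcases hF with hF | hF | hF | hF <;> have h1 := gcd_mul_card_of_equiv hF e <;> norm_num at h1
    · exact .inl (key _ (by rw [show Nat.card (H ⧸ N) = 60 by omega]; decide +kernel) rfl)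
    · exact .inr (.inl (key _ (by rw [show Nat.card (H ⧸ N) = 168 by omega]; decide +kernel) rfl))
    · exact .inr (.inl (key _ (by rw [show Nat.card (H ⧸ N) = 504 by omega]; decide +kernel) rfl))
    · exact .inr (.inr (.inr (key _
        (by rw [show Nat.card (H ⧸ N) = 2448 by omega]; decide +kernel) rfl)))
  · have h1 := S0243.result hF 3 (by norm_num)
    rw [← Nat.card_congr e.toEquiv] at h1
    norm_num [Fin.prod_univ_three] at h1
    exact .inr (.inr (.inl (key _
      (by rw [show Nat.card (H ⧸ N) = 5616 by omega]; decide +kernel) rfl)))⟩
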