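import Cfsg.Agent.Gate.S0504
import Cfsg.Agent.Sig2.Final

set_option autoImplicit false
open Cfsg Cfsg.Agent Cfsg.Lib Cfsg.Lib.Trans Cfsg.Lib.Sig2

/-- S0504, conditional on the listed gates. -/
theorem Cfsg.Agent.Cond.S0504.{u} [Gate.S0217.{u}] [Gate.S0205.{u}] [Gate.BenderCore.{u}]
    [Gate.S1136.{u, u}] : Gate.S0504.{u} := ⟨by
  intro G _ _ h3 hO hc S hS
  have hc' := constr_of_not_isComponentType hc
  obtain ⟨A, hAS, hA⟩ := exists_E8_le_sylow h3 (isSylowIn_top S)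
  exact isCharacteristicTwoType_of_th hc' hA.even fun t ht => le_bot_iff.1 (hO ▸
    th_le_oddCore_of_allDeep hc' (isSylowIn_top S) hA hAS (allDeep_of_connected hS hA hAS) ht)⟩
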