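import Cfsg.Agent.Gate.S0517
import Cfsg.Agent.Gate.NgMain
import Cfsg.Agent.Bender.Main
import Cfsg.Agent.Ngrp.AsmOut
import Cfsg.Agent.S0252
import Cfsg.Agent.S0253

set_option autoImplicit false
open Cfsg Cfsg.Agent Cfsg.Lib Cfsg.Lib.Ngrp

/-- S0517, conditional on the listed gates. -/
theorem Cfsg.Agent.Cond.S0517.{u} [Gate.S0205.{u}] [Gate.NgMain.{u}] [Gate.S2603.{0}] :
    Gate.S0517.{u} := ⟨by
  intro G _ _ hG h4 hL
  have hs := QuotientGroup.mk'_surjective (oddCore G)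
  have hG' : ¬ Group.IsSolvable (G ⧸ oddCore G) := fun h => hG
    ((Group.isSolvable_iff_subgroup_quotient (oddCore G)).2
      ⟨Gate.S0205.out (Nat.coprime_two_right.1 (Solv.coprime_card_pPrimeCore 2 G)), h⟩)
  have hL' := twoLocal_of_surjective _ hs hL
  have : Nontrivial (G ⧸ oddCore G) := by
    by_contra h1
    rw [not_nontrivial_iff_subsingleton] at h1
    exact hG' inferInstance
  obtain ⟨L, hn, hsim, hna, hC⟩ := exists_simple_normal
    (eq_bot_of_twoLocal hG' (Bender.oddCore_quotient G) hL') (isSolvable_centralizer_of_twoLocal hL')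
  have hr : SectionalPRankLE 2 4 L := sectionalPRankLE_of_injective L.subtype L.subtype_injective
    (sectionalPRankLE_of_surjective _ hs h4)
  have := isPerfect_of_simple hna
  have key : IsMulCommutative (Out L) → Nonempty (↥(commutator G) ⧸ oddCore ↥(commutator G) ≃* L) :=
    fun h => (nonempty_commutator_quotient_equiv G).map fun e =>
      e.trans (MulEquiv.subgroupCongr (commutator_eq_of_out L hC h))
  haveI : Fact (Nat.Prime 3) := ⟨Nat.prime_three⟩
  haveI : Fact (Nat.Prime 5) := ⟨Nat.prime_five⟩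
  rcases Gate.NgMain.out hna (twoLocal_subgroup hL' L) with
    ⟨F, i1, i2, hF, ⟨e⟩⟩ | ⟨F, i1, i2, m, hm, hF, ⟨e⟩⟩ | ⟨F, i1, i2, q, hF, h2, hq, ⟨e⟩⟩ | ⟨⟨e⟩⟩ |
    ⟨F, i1, i2, hF, ⟨e⟩⟩ | ⟨⟨e⟩⟩ | ⟨⟨e⟩⟩ | ⟨-, -, h⟩
  · obtain ⟨f⟩ := key (outComm_congr e (outComm_psl2 hF))
    left
    by_cases ho : Odd (Fintype.card F)
    · exact ⟨F, i1, i2, Or.inl ho, ⟨f.trans e⟩⟩
    obtain ⟨p, _, n, hp, hn⟩ := FiniteField.card' F
    obtain rfl : p = 2 := hp.even_iff.1 (Nat.even_pow.1 (hn ▸ Nat.not_odd_iff_even.1 ho)).1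
    have h1 := card_le_of_pRankLE_psl2 2 (pRankLE_of_injective e.symm.toMonoidHom e.symm.injective
      (SectionalPRankLE.pRankLE hr))
    rw [Nat.card_eq_fintype_card, hn, Nat.pow_le_pow_iff_right one_lt_two] at h1
    have h2 : 2 ≤ (n : ℕ) := (Nat.pow_le_pow_iff_right one_lt_two).1 (hn ▸ hF)
    generalize (n : ℕ) = k at hn h1 h2
    interval_cases k
    · obtain ⟨a⟩ := S0252.result (F := F) hn
      obtain ⟨b⟩ := S0253.result (F := ZMod 5) (ZMod.card 5)
      exact ⟨ZMod 5, inferInstance, inferInstance, Or.inl (by rw [ZMod.card]; decide),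
        ⟨(f.trans e).trans (a.trans b.symm)⟩⟩
    · exact ⟨F, i1, i2, Or.inr (Or.inl hn), ⟨f.trans e⟩⟩
    · exact ⟨F, i1, i2, Or.inr (Or.inr hn), ⟨f.trans e⟩⟩
  · have h1 := card_le_of_pRankLE_sz (Chev.lieSzModel hm hF) (pRankLE_of_injective
      e.symm.toMonoidHom e.symm.injective (SectionalPRankLE.pRankLE hr))
    rw [hF, Nat.pow_le_pow_iff_right one_lt_two] at h1
    obtain rfl : m = 1 := by omega
    obtain ⟨f⟩ := key (outComm_congr e (outComm_sz8 hF))
    refine Or.inr (Or.inr (Or.inr (Or.inr ⟨f.isSimpleGroup, Or.inl ?_⟩)))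
    rw [Nat.card_congr (f.trans e).toEquiv, (Chev.lieSzModel hm hF).card_G, hF]
    norm_num
  · obtain ⟨n, rfl⟩ := exists_two_pow_of_card_sq hF h2
    have h1 := sq_le_of_sectional_psu3 hF
      (sectionalPRankLE_of_injective e.symm.toMonoidHom e.symm.injective hr)
    have h3 : 2 ^ n = 4 := by nlinarith
    obtain ⟨f⟩ := key (outComm_congr e (outComm_psu3 hF (Or.inr h3)))
    exact Or.inr (Or.inr (Or.inl ⟨F, i1, i2, _, hF, Or.inr h3, ⟨f.trans e⟩⟩))
  · obtain ⟨f⟩ := key (outComm_congr e outComm_psl33)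
    exact Or.inr (Or.inl ⟨ZMod 3, inferInstance, inferInstance, ZMod.card 3, ⟨f.trans e⟩⟩)
  · obtain ⟨f⟩ := key (outComm_congr e (outComm_psu3 (q := 3) hF (Or.inl rfl)))
    exact Or.inr (Or.inr (Or.inl ⟨F, i1, i2, 3, hF, Or.inl rfl, ⟨f.trans e⟩⟩))
  · obtain ⟨f⟩ := key (outComm_congr e (outComm_alternating (by norm_num) (by norm_num)))
    exact Or.inr (Or.inr (Or.inr (Or.inl ⟨f.trans e⟩)))
  · obtain ⟨f⟩ := key (outComm_congr e outComm_M11)
    exact Or.inr (Or.inr (Or.inr (Or.inr ⟨f.isSimpleGroup, Or.inr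
      ((Nat.card_congr (f.trans e).toEquiv).trans Spor.MP.card_M11)⟩)))
  · exact absurd (SectionalPRankLE.pRankLE hr) h⟩
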