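import Cfsg.Agent.Gate.S1257
import Cfsg.Agent.Gate.S0507
import Cfsg.Agent.Rank2.SimpleSyl
import Cfsg.Agent.S4477

set_option autoImplicit false
open Cfsg Cfsg.Agent Cfsg.Lib Cfsg.Lib.Rank2 Cfsg.Lib.Trans Subgroup

/-- S1257, conditional on the listed gates (universe list must stay the statement's own). -/
theorem Cfsg.Agent.Cond.S1257.{u} [Gate.S0507.{u}] : Gate.S1257.{u} := ⟨by
  intro G _ _ _ hI
  by_cases hna : IsMulCommutative G
  · left
    let : CommGroup G := { ‹Group G› with mul_comm := hna.1.1 }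
    obtain ⟨t, ht⟩ : Nonempty {t : G // orderOf t = 2} :=
      (Nat.card_ne_zero.1 (by omega)).1
    exact ((Nat.prime_dvd_prime_iff_eq Nat.prime_two IsSimpleGroup.prime_card).1
      (ht ▸ orderOf_dvd_natCard t)).symm
  obtain ⟨S⟩ : Nonempty (Sylow 2 G) := inferInstance
  have hc := not_isCyclic_sylow hna S
  obtain ⟨_ | _ | m, hm⟩ := IsPGroup.iff_card.1 S.isPGroup'
  · exact absurd (isCyclic_of_card_dvd_prime (p := 2) (by simp [hm])) hc
  · exact absurd (isCyclic_of_prime_card (p := 2) hm) hc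
  rw [card_invol_modEq S ⟨2 ^ m, by rw [hm]; ring⟩] at hI
  have h4 := (S4477.result S.isPGroup' hI).resolve_left hc
  rcases m with _ | m
  · have : IsKleinFour S := ⟨hm, (not_isCyclic_iff_exponent_eq_prime Nat.prime_two hm).1 hc⟩
    have h3 : Nat.card {x : S // orderOf x = 2} + 1 = 4 := by
      classical
      rw [← this.card_four, ← Nat.card_congr (Equiv.optionSubtypeNe (1 : (S : Subgroup G))), Finite.card_option]
      exact congrArg (· + 1) (Nat.card_congr (Equiv.subtypeEquivRight fun x =>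
        ⟨fun h e => by simp [e] at h, fun h => orderOf_eq_prime
          (Monoid.exponent_dvd_iff_forall_pow_eq_one.1 this.exponent_two.dvd x) h⟩))
    omega
  rcases dihedral_or_quaternion_or_quasiDihedral_of_commutator_index hm h4 with ⟨⟨e⟩⟩ | ⟨⟨e⟩⟩ | h
  · rcases simple_of_dihedral hna S (Nat.le_self_pow (by omega) 2) e with ⟨F, _, _, h1, h2, ⟨f⟩⟩ | h
    · refine .inr (.inr (.inr (.inl ⟨F, _, _, h2, ?_, ⟨f⟩⟩)))
      have h5 := Class.gcd_mul_card_PSL2 (F := F)
      obtain ⟨k, hk⟩ : 8 ∣ Nat.card G := (show 8 ∣ _ from ⟨2 ^ m, by rw [hm]; ring⟩).trans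
        (S : Subgroup G).card_subgroup_dvd_card
      obtain ⟨q, hq⟩ := h1
      rw [← Nat.card_congr f.toEquiv, hk, Nat.card_eq_fintype_card, hq, Nat.add_sub_cancel,
        Nat.gcd_mul_right_right] at h5
      have h6 : ∀ r : ZMod 16, (2 * r + 1) * (2 * r) * (2 * r + 1 + 1) = 0 →
          (2 * r + 1).val % 8 = 1 ∨ (2 * r + 1).val % 8 = 7 := by decide
      have h7 := h6 q (by
        have := congrArg (Nat.cast : ℕ → ZMod 16) h5
        push_cast at this
        rw [← this, ← mul_assoc]
        exact mul_eq_zero_of_left rfl _)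
      rw [show (2 * q + 1 : ZMod 16) = ((2 * q + 1 : ℕ) : ZMod 16) by push_cast; rfl,
        ZMod.val_natCast] at h7
      omega
    · exact .inr (.inl h)
  · exact absurd (UInv.of_sylow S (by positivity) e) (not_uInv hna)
  · rcases Gate.S0507.out S h with h | h | h
    exacts [.inr (.inr (.inr (.inr (.inl h)))), .inr (.inr (.inr (.inr (.inr h)))),
      .inr (.inr (.inl h))]⟩
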