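import Cfsg.Agent.Gate.S1294
import Cfsg.Agent.Trans.SigGraph

set_option autoImplicit false
open Cfsg Cfsg.Agent Cfsg.Lib.Solv Cfsg.Lib.Trans.Sig

/-- S1294, conditional on the listed gates (universe list must stay the statement's own). -/
theorem Cfsg.Agent.Cond.S1294.{u} [Gate.S0217.{u}] : Gate.S1294.{u} := ⟨by
  intro G _ _ p _ hO _ hconn θ hC heq hbal a ha
  exact eq_bot_of_connected_of_solvable hO hconn (fun a h1 h2 => hC a ⟨h1, h2⟩)
    (fun a g h1 h2 => (heq a g ⟨h1, h2⟩).trans (map_conj_eq_smul _ _))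
    (fun a b h1 h2 h3 h4 => hbal a b ⟨h1, h2⟩ ⟨h3, h4⟩) ha.1 ha.2⟩
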