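import Cfsg.Agent.Gate.S1295
import Cfsg.Agent.Trans.SigGraph

set_option autoImplicit false
open Cfsg Cfsg.Agent Cfsg.Lib.Solv Cfsg.Lib.FT Cfsg.Lib.Trans Cfsg.Lib.Trans.Sig

/-- S1295, conditional on the listed gates (universe list must stay the statement's own). -/
theorem Cfsg.Agent.Cond.S1295.{u} [Gate.S0217.{u}] : Gate.S1295.{u} := ⟨by
  intro G _ _ p hp hO _ hconn hL a ha
  have hE : ∀ a : G, centralizerPPrimeCore p a = piCoreOf {p}ᶜ (𝐂₁ a) := fun a =>
    (p'core_eq_map p _).symm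
  have h := eq_bot_of_connected_of_solvable (θ := centralizerPPrimeCore p) hO hconn
    (fun a h1 h2 => ⟨Subgroup.map_subtype_le _, by
      rw [hE]; exact (p'groupE hp.out).1 (pcore_pgroup _ _), (hL a ⟨h1, h2⟩).2⟩)
    (fun a g _ _ => by rw [hE, hE, cent1J, pcoreJ])
    (fun a b h1 _ h3 h4 hab => centralizerPPrimeCore_inf_le
      (isPConstrained_iff_pLayer_eq_bot.2 (hL b ⟨h3, h4⟩).1) (mem_cent1.2 hab)
      (isPGroup_of_card_prime (by rw [Nat.card_zpowers, h1]))) ha.1 ha.2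
  have h0 : pPrimeCore p (𝐂₁ a) = ⊥ :=
    (Subgroup.map_eq_bot_iff_of_injective _ (Subgroup.subtype_injective _)).1 h
  exact genFitting_eq_pCore_iff'.2 ⟨(pLayer_eq_layer h0).symm.trans (hL a ha).1, h0⟩⟩
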