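import Cfsg.Agent.Gate.S1322
import Cfsg.Agent.Gate.S0205
import Cfsg.Agent.Trans.ZStarTwo
import Cfsg.Agent.Trans.DiagTwo

set_option autoImplicit false
open Cfsg Cfsg.Agent Cfsg.Lib Cfsg.Lib.Trans Subgroup

/-- S1322, conditional on the listed gates (universe list must stay the statement's own). -/
theorem Cfsg.Agent.Cond.S1322.{u} [Gate.S0205.{u}] : Gate.S1322.{u} := ⟨by
  intro G _ _ hL2 t ht L hLt hL
  have hq := isQuasisimple_of_isComponent_subgroupOf hLt hL
  have hd : 2 ∣ Nat.card L := by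
    by_contra h
    exact IsQuasisimple.not_isSolvable hq (Gate.S0205.out (Nat.odd_iff.2 (Nat.two_dvd_ne_zero.1 h)))
  have hK := isPComponentOf_of_isComponent hLt hL hd
  have h1 := pLayerOf_centralizer_le_pLayer_of_zstar zStarHyp_two (isPGroup_zpowers_of_orderOf ht)
  rw [centralizer_zpowers_eq, hL2] at h1
  obtain ⟨D, hD, ⟨hn, hLD⟩ | ⟨hn, h, h2⟩⟩ := IsPComponentOf.exists_pumpup hK ht
    ((IsPComponentOf.le_pLayerOf hK).trans h1) hLt inf_le_right
  · refine ⟨D, hD, ?_⟩
    by_cases h2 : L = D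
    · exact Or.inl h2
    refine Or.inr (Or.inl ⟨lt_of_le_of_ne hLD h2, ?_⟩)
    refine ((IsComponent.commutator_eq_self_or_eq_bot hD (zpowers_le.2 hn)).resolve_right
      fun h3 => h2 ?_).symm
    rw [commutator_eq_bot_iff_le_centralizer, centralizer_zpowers_eq] at h3
    exact IsPComponentOf.eq_of_le hK (isPComponentOf_of_isComponent h3
      (IsComponent.subgroupOf hD h3) (hd.trans (card_dvd_of_le hLD))) hLD
  · refine ⟨D, hD, Or.inr (Or.inr ⟨fun h3 => hn (Solv.mem_normalizer_iff_conj_smul_eq.2 h3), ?_⟩)⟩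
    have h3 : D ⊔ D.map (MulAut.conj t).toMonoidHom = orbSup (zpowers t) D := (orbSup_two ht D).symm
    rw [h3]
    have h4 : L ≤ orbSup (zpowers t) D ⊓ centralizer {t} :=
      le_inf (h2.le.trans h.range_diag_le_orbSup) hLt
    refine le_antisymm (le_map_layer_subtype h4 (isComponent_subgroupOf_of_le h4 inf_le_right hL)) ?_
    rw [h2]
    refine h.le_range_diag (IsComponent.perfect hD) (perfect_map_layer_subtype _)
      ((map_subtype_le _).trans inf_le_left) ?_
    rw [centralizer_zpowers_eq]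
    exact (map_subtype_le _).trans inf_le_right⟩
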