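import Cfsg.Agent.Gate.S1650
import Cfsg.Agent.Gate.S1701
import Cfsg.Agent.HN.Final

set_option autoImplicit false
open Cfsg Cfsg.Agent

/-- S1650, conditional on the listed gates (universe list must stay the statement's own). -/
theorem Cfsg.Agent.Cond.S1650.{u} [Gate.S1701] : Gate.S1650.{u} := ⟨by
  intro G _ _ _ t ht M _ hM hout hcov
  have := Gate.S1701.out.1
  have h : Lib.HN.Hyp G := ⟨t, M, ht, hM, hout, hcov⟩
  obtain ⟨e⟩ := h.isoHN
  exact ⟨⟨inferInstance, (Nat.card_congr e.toEquiv).trans Gate.S1701.out.2⟩, h.classes⟩⟩
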