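import Cfsg.Agent.Gate.S1671
import Cfsg.Agent.Gate.S1700
import Cfsg.Agent.ThT.Main

set_option autoImplicit false
open Cfsg Cfsg.Agent Cfsg.Lib.ThT

/-- S1671, conditional on the listed gates (universe list must stay the statement's own). -/
theorem Cfsg.Agent.Cond.S1671.{u} [Gate.S1700] : Gate.S1671.{u} := ⟨by
  intro G _ _ _ t ht Q _ hQ hcard _ h2c e
  obtain ⟨p, H⟩ := exists_hyp ht Q hQ hcard h2c e
  obtain ⟨⟨f, hf⟩, -⟩ := H.main H.not_isolated
  have := Gate.S1700.out.1
  exact iso_of_surj hf⟩
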