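import Cfsg.Agent.Gate.S1672
import Cfsg.Agent.Gate.ThE8
import Cfsg.Agent.Cond.S1671

set_option autoImplicit false
open Cfsg Cfsg.Agent Cfsg.Lib.ThT

/-- S1672, conditional on the listed gates (universe list must stay the statement's own). -/
theorem Cfsg.Agent.Cond.S1672.{u} [Gate.S1700] [Gate.ThE8] : Gate.S1672.{u} := ⟨by
  intro G _ _ _ t ht Q _ hQ hcard hp h2c e
  obtain ⟨φ⟩ := Cond.S1671.out t ht Q hQ hcard hp h2c e
  obtain ⟨f, x, hx⟩ := Gate.ThE8.out
  have := Gate.S1700.out.1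
  have : Fact (Nat.Prime 3) := ⟨Nat.prime_three⟩
  refine ⟨ZMod 3, inferInstance, inferInstance, rfl, f.comp φ.toMonoidHom,
    ((MonoidHom.ker_eq_bot_iff f).1 ?_).comp φ.injective⟩
  exact f.normal_ker.eq_bot_or_eq_top.resolve_right fun e => hx (e ▸ Subgroup.mem_top x : x ∈ f.ker)⟩
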