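import Cfsg.Agent.Gate.S1706
import Cfsg.Agent.Gate.S1700
import Cfsg.Agent.Spor.ThFin

set_option autoImplicit false
open Cfsg Cfsg.Agent Cfsg.Lib.Spor

theorem Cfsg.Agent.Cond.S1706 [Gate.S1700] : Gate.S1706 := ⟨ThU.Big.index' Gate.S1700.out.2.ge⟩
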