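import Cfsg.Agent.Gate.S1745
import Cfsg.Agent.Gate.S3334
import Cfsg.Agent.DC.StdMain

set_option autoImplicit false
open Cfsg Cfsg.Agent

/-- S1745, conditional on the listed gates (universe list must stay the statement's own). -/
theorem Cfsg.Agent.Cond.S1745.{u} [Gate.S3334.{u}] : Gate.S1745.{u} := ⟨by
  intro G _ _ _ hG _ L hL hLX
  obtain ⟨z, hz, rfl⟩ := Lib.DC.exists_centralizer_eq hG le_rfl hL hLX
  refine Or.inr (Or.inr ((Gate.S3334.out z hz hLX).resolve_left fun e => ?_))
  rw [Lib.Local.oddCore_eq_bot_of_isSimpleGroup hz, sup_bot_eq] at e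
  have hc : z ∈ Subgroup.center G := Subgroup.mem_center_iff.2 fun g =>
    Subgroup.mem_centralizer_singleton_iff.1 (e ▸ Subgroup.mem_top g)
  rcases (inferInstance : (Subgroup.center G).Normal).eq_bot_or_eq_top with e' | e'
  · rw [e', Subgroup.mem_bot] at hc
    rw [hc, orderOf_one] at hz
    omega
  · exact hG ⟨⟨fun a b => (Subgroup.mem_center_iff.1 (e' ▸ Subgroup.mem_top b) a)⟩⟩⟩
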