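import Cfsg.Agent.Gate.S1746
import Cfsg.Agent.Gate.S1660
import Cfsg.Agent.DC.StdMain

set_option autoImplicit false
open Cfsg Cfsg.Agent

/-- S1746, conditional on the listed gates (universe list must stay the statement's own). -/
theorem Cfsg.Agent.Cond.S1746.{u} [Gate.S1660.{u}] : Gate.S1746.{u} := ⟨by
  intro G _ _ _ hG _ L hL hLX
  obtain ⟨z, hz, rfl⟩ := Lib.DC.exists_centralizer_eq hG (by omega) hL hLX
  exact Or.inr (Or.inr (Gate.S1660.out z hz hLX))⟩
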