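import Cfsg.Agent.Gate.S1913
import Cfsg.Agent.Trans.ZCentMain

set_option autoImplicit false
open Cfsg Cfsg.Agent Cfsg.Lib Cfsg.Lib.Local Cfsg.Lib.Trans

/-- S1913, conditional on the listed gates (universe list must stay the statement's own). -/
theorem Cfsg.Agent.Cond.S1913.{u} [Gate.S1175.{u}] : Gate.S1913.{u} := ⟨by
  intro G _ _ P z hz2 hzP H hH hi hii
  obtain ⟨z', hz', rfl⟩ := hzP
  refine isStronglyEmbedded_iff_se.2 (ZH.se ⟨hz2, ⟨P, z'.2, fun s hs => ?_⟩, hH, ?_,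
    fun g hg => ?_, fun u hu huz hC x hx hx2 => ?_⟩)
  · exact congrArg Subtype.val (Subgroup.mem_center_iff.1 hz' ⟨s, hs⟩)
  · simpa [mem_map_conj] using (hi 1).2 H.one_mem
  · refine H.inv_mem_iff.1 ((hi g⁻¹).1 ?_)
    rw [mem_map_conj, inv_inv]
    exact hg
  · have h1 : SE 2 (H.subgroupOf (Lz ((P : Subgroup G).subtype z') u)) :=
      isStronglyEmbedded_iff_se.1 (hii u hu huz hC)
    have hz : (P : Subgroup G).subtype z' ∈ Lz ((P : Subgroup G).subtype z') u :=
      mem_Lz (IsConj.refl _) huz.symm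
    exact (Lz ((P : Subgroup G).subtype z') u).subtype.map_isConj
      (h1.isConj_involutions (a := ⟨_, hz⟩) (b := ⟨x, hx⟩) (by rw [Subgroup.orderOf_mk, hz2])
        (by rw [Subgroup.orderOf_mk, hx2]))⟩
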