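import Cfsg.Agent.Gate.S1917
import Cfsg.Agent.FPFC.Basic

set_option autoImplicit false
open Cfsg Cfsg.Agent Cfsg.Lib Cfsg.Lib.FPFC Subgroup

/-- S1917, conditional on the listed gates (universe list must stay the statement's own). -/
theorem Cfsg.Agent.Cond.S1917.{u} [Gate.FPFCop.{u}] : Gate.S1917.{u} := ⟨by
  intro G _ _ A r _ _ hcop _ hodd
  refine solv_aut A hcop fun x hx h2 => ?_
  let C : Subgroup G :=
    { carrier := {g | ∀ φ ∈ A, φ g = g}
      one_mem' := fun φ _ => map_one φ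
      mul_mem' := fun ha hb φ h => by rw [map_mul, ha φ h, hb φ h]
      inv_mem' := fun ha φ h => by rw [map_inv, ha φ h] }
  have h3 : orderOf x ∣ Nat.card C := C.orderOf_dvd_natCard hx
  have h4 : orderOf x ∣ 2 := orderOf_dvd_of_pow_eq_one (by rw [pow_two, h2])
  exact orderOf_eq_one_iff.mp (Nat.eq_one_of_dvd_coprimes (Nat.coprime_two_right.mpr hodd) h3 h4)⟩
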