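import Cfsg.Agent.Gate.S2057
import Cfsg.Agent.Gate.S1700
import Cfsg.Agent.Gate.ThHyp
import Cfsg.Agent.ThT.MultOdd

set_option autoImplicit false
open Cfsg Cfsg.Agent Cfsg.Lib.ThT

/-- S2057, conditional on the listed gates (universe list must stay the statement's own). -/
theorem Cfsg.Agent.Cond.S2057 [Gate.S1700] [Gate.ThHyp] : Gate.S2057 := ⟨by
  have := Gate.S1700.out.1
  have : Finite Spor.Th := Nat.finite_of_card_ne_zero (by rw [Gate.S1700.out.2]; norm_num)
  obtain ⟨Q, z, p, H⟩ := Gate.ThHyp.out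
  exact H.multiplier H.not_isolated Gate.S1700.out.2 fun _ => Finite.injective_iff_surjective.2⟩
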