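import Cfsg.Agent.Gate.S2220
import Cfsg.Agent.Gate.S3238
import Cfsg.Agent.CITCor.NineOrd
import Cfsg.Agent.Class.PGL2Sub
import Cfsg.Agent.Chev.SuzukiFpf
import Cfsg.Agent.Chev.SuzukiInst
import Cfsg.Agent.Recog.PGU3B
import Cfsg.Agent.S0243
import Cfsg.Agent.S0497
import Cfsg.Agent.S1020

set_option autoImplicit false
open Cfsg Cfsg.Agent Cfsg.Lib.CITCor

/-- S2220, conditional on the classification of the simple groups without elements of order 6. -/
theorem Cfsg.Agent.Cond.S2220.{u} [Gate.S3238.{u}] : Gate.S2220.{u} := ⟨by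
  intro G _ _ _ hG q a b hq hq2 hq3 hcard R hR
  have h6 : ∀ g : G, orderOf g ≠ 6 := fun g hg => by
    have h3 : orderOf (g ^ 2) = 3 := by rw [orderOf_pow' _ two_ne_zero, hg]; rfl
    have hp : IsPGroup 3 (Subgroup.zpowers (g ^ 2)) :=
      IsPGroup.of_card (n := 1) (by rw [Nat.card_zpowers, h3, pow_one])
    obtain ⟨Q, hQ⟩ := hp.exists_le_sylow
    obtain ⟨c, rfl⟩ := MulAction.exists_smul_eq G R Q
    have hm : c⁻¹ * g ^ 2 * c ∈ (R : Subgroup G) := by
      have := hQ (Subgroup.mem_zpowers _)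
      rw [Sylow.coe_subgroup_smul, Subgroup.mem_pointwise_smul_iff_inv_smul_mem] at this
      rwa [← map_inv, MulAut.smul_def, MulAut.conj_apply, inv_inv] at this
    have hne : c⁻¹ * g ^ 2 * c ≠ 1 := fun e => by
      have : g ^ 2 = 1 := by
        have e' : g ^ 2 = c * (c⁻¹ * g ^ 2 * c) * c⁻¹ := by group
        rw [e', e]; group
      rw [this, orderOf_one] at h3
      omega
    have hc : c⁻¹ * g * c ∈ (R : Subgroup G) := by
      rw [← hR _ hm hne, Subgroup.mem_centralizer_singleton_iff]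
      group
    obtain ⟨k, hk⟩ := R.isPGroup' ⟨_, hc⟩
    have hk' : (c⁻¹ * g * c) ^ 3 ^ k = 1 := congrArg Subtype.val hk
    have : g ^ 3 ^ k = 1 := by
      have e : (c⁻¹ * g * c) ^ 3 ^ k = c⁻¹ * g ^ 3 ^ k * c := by
        simpa using conj_pow (a := c⁻¹) (b := g) (i := 3 ^ k)
      have e' : g ^ 3 ^ k = c * (c⁻¹ * g ^ 3 ^ k * c) * c⁻¹ := by group
      rw [e', ← e, hk']; group
    have := orderOf_dvd_of_pow_eq_one this
    rw [hg] at this
    exact absurd (Nat.prime_two.dvd_of_dvd_pow ((by norm_num : 2 ∣ 6).trans this)) (by norm_num)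
  rcases Gate.S3238.out hG h6 with ⟨F, _, _, -, -, ⟨e⟩⟩ | ⟨F, _, _, n, hn, -, hF, ⟨e⟩⟩ |
    ⟨F, _, _, n, hn, -, hF, ⟨e⟩⟩ | h
  · have h1 := Lib.Class.gcd_mul_card_PSL2 (F := F)
    rw [← Nat.card_congr e.toEquiv, hcard, Nat.card_eq_fintype_card] at h1
    obtain ⟨p, _, f, hp, hf⟩ := FiniteField.card' F
    obtain ⟨a', ha⟩ : ∃ a', Nat.gcd 2 (Fintype.card F - 1) * (9 * 2 ^ a * q ^ b) =
        9 * 2 ^ a' * q ^ b := by
      rcases (Nat.dvd_prime Nat.prime_two).1 (Nat.gcd_dvd_left 2 (Fintype.card F - 1)) with h | h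
      · exact ⟨a, by rw [h, one_mul]⟩
      · exact ⟨a + 1, by rw [h]; ring⟩
    have h2 := h1.symm.trans ha
    rw [hf] at h2
    rcases l2_cases hq hq2 hq3 hp f.pos h2 with h | h | h
    · exact .inr (.inl ⟨F, _, _, hf.trans h, ⟨e⟩⟩)
    · rw [hf, h, ← hcard] at h1
      exact .inl (S0497.result (by norm_num at h1; omega))
    · rw [hf, h, ← hcard] at h1
      have : Fact (Nat.Prime 17) := ⟨by norm_num⟩
      exact .inr (.inr (S1020.result (by norm_num at h1; omega) (F := ZMod 17) (ZMod.card 17)))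
  · have h1 := S0243.result hF 3 (by norm_num)
    rw [← Nat.card_congr e.toEquiv, hcard, Fin.prod_univ_three] at h1
    refine absurd ?_ (not_dvd_l3 (a := a) (b := b) hq hn (Nat.gcd_dvd_left 3 (2 ^ n - 1)) (.inl rfl))
    have h2 : 1 ≤ 2 ^ n := Nat.one_le_two_pow
    have h3 : (2 : ℤ) ^ n - 1 ≠ 0 := by
      have : (2 : ℤ) ^ 1 ≤ 2 ^ n := pow_le_pow_right₀ (by norm_num) (by omega)
      omega
    have h4 : ∀ i : ℕ, i ≤ 3 → (2 ^ n) ^ i ≤ (2 ^ n) ^ 3 := fun i hi => Nat.pow_le_pow_right h2 hi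
    generalize Nat.gcd 3 (2 ^ n - 1) = c at *
    generalize 9 * 2 ^ a * q ^ b = N at *
    simp only [Fin.val_zero, Fin.val_one, Fin.val_two] at h1
    zify [h2, h4 0 (by norm_num), h4 1 (by norm_num), h4 2 (by norm_num)] at h1
    refine ⟨(2 ^ n) ^ 3 * (2 ^ n - 1), mul_left_cancel₀ h3 ?_⟩
    push_cast
    linear_combination h1
  · have h1 := Lib.Recog.PGU3.gcd_mul_card_psu hF
    rw [← Nat.card_congr e.toEquiv, hcard] at h1
    refine absurd ?_ (not_dvd_l3 (a := a) (b := b) hq hn (Nat.gcd_dvd_left 3 (2 ^ n + 1)) (.inr rfl))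
    rw [h1]
    have h2 : 1 ≤ (2 ^ n) ^ 2 := Nat.one_le_pow _ _ (by positivity)
    push_cast [h2]
    exact ⟨(2 ^ n) ^ 3 * (2 ^ n + 1), by ring⟩
  · obtain ⟨F, _, _, m, hm, hF, ⟨e⟩⟩ := h
    exact absurd (hcard ▸ ((by norm_num : 3 ∣ 9).mul_right _).mul_right _)
      ((Lib.Chev.lieSzModel hm hF).ofEquiv e).not_three_dvd_card⟩
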