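import Cfsg.Agent.Gate.S2497
import Cfsg.Agent.CITCor.EPPO

set_option autoImplicit false
open Cfsg Cfsg.Agent

open Cfsg.Lib Cfsg.Lib.CITCor

/-- S2497, conditional on the listed gates. -/
theorem Cfsg.Agent.Cond.S2497.{u} [Gate.CITStrong.{u}] : Gate.S2497.{u} := ⟨by
  intro G _ _ _ hG h
  rcases EPPO.simple_cases h hG with ⟨F, i1, i2, hF, ⟨e⟩⟩ | h3 | h4
  · by_cases h9 : Fintype.card F = 9
    · obtain ⟨f⟩ := S0254.result h9
      exact Or.inl ⟨e.trans f⟩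
    · refine Or.inr (Or.inl ⟨F, i1, i2, ?_, ⟨e⟩⟩)
      simp only [Finset.mem_insert, Finset.mem_singleton] at hF ⊢
      omega
  · exact Or.inr (Or.inr (Or.inl h3))
  · exact Or.inr (Or.inr (Or.inr h4))⟩
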