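import Cfsg.Agent.Gate.S4030
import Cfsg.Agent.Gate.S1169
import Cfsg.Agent.Gate.S0506
import Cfsg.Agent.Inst.S1136
import Cfsg.Agent.Gold.KBender
import Cfsg.Agent.Recog.CycNormAut

set_option autoImplicit false

namespace Cfsg.Lib.Recog.Irr2

open Subgroup Cfsg.Agent Cfsg.Lib.CITCor Cfsg.Lib.Class Cfsg.Lib.Class.Form
open scoped MatrixGroups

/-- The unitary group `U₃(2ⁿ)` has an element of order four conjugate to its inverse. -/
theorem exists_inverted {E : Type*} [Field E] [Fintype E] {n : ℕ}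
    (hE : Fintype.card E = (2 ^ n) ^ 2) :
    ∃ g h : PSU 3 E (2 ^ n), g * g ≠ 1 ∧ g * g * (g * g) = 1 ∧ h * g = g * g * g * h := by
  obtain ⟨-, Q, -, u, d, -, U⟩ := Gold.exists_udata hE
  have : CharP E 2 := charP_of_card_eq_prime_pow (f := n * 2) (by rw [hE, pow_mul])
  have two : (2 : E) = 0 := CharTwo.two_eq_zero
  have hσ := frobq_frobq hE
  have hσ1 := frobq_ne_id hE
  generalize frobq hE = σ at U hσ hσ1
  obtain ⟨y, hy⟩ := exists_trace_eq hσ1 hσ (map_one σ)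
  have c1 : y + σ y = 1 * σ 1 := by simpa using hy
  have c2 : (1 : E) + σ 1 = 0 * σ 0 := by simpa using CharTwo.add_self_eq_zero (1 : E)
  have c3 : y * (y * σ y) + σ (y * (y * σ y)) = y * σ y := by
    simp only [map_mul, hσ]; linear_combination y * σ y * hy
  have c0 : (0 : E) + σ 0 = 0 * σ 0 := by simp
  have u0 : u 0 0 = 1 := by simpa using U.mul c0 c0
  have h1 : u 1 y * u 1 y = u 0 1 := by
    rw [U.mul c1 c1]
    congr 1
    · linear_combination two
    · simp only [map_one]; linear_combination y * two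
  refine ⟨u 1 y, u y (y * (y * σ y)), ?_, ?_, ?_⟩
  · rw [h1, ← u0]
    exact fun e => one_ne_zero (U.inj c2 c0 e).2
  · rw [h1, U.mul c2 c2, ← u0]
    congr 1
    · simp
    · simp only [map_zero]; linear_combination two
  · rw [h1, mul_assoc, U.mul c1 c3, U.mul c3 c1, U.mul c2 (by
      simp only [map_add, map_mul, hσ, map_one]; linear_combination (y * σ y + 1) * hy)]
    congr 1
    · ring
    · simp only [map_one]; linear_combination hy - (σ y) * two

theorem psl2_even {G : Type*} [Group G] {F : Type} [Field F] [Fintype F] {n : ℕ} (hn : 2 ≤ n)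
    (hF : Fintype.card F = 2 ^ n) (e : G ≃* PSL(2, F)) :
    ∃ (F : Type) (_ : Field F) (_ : Fintype F), 4 < Fintype.card F ∧
      (Fintype.card F % 8 = 0 ∨ Fintype.card F % 8 = 3 ∨ Fintype.card F % 8 = 5) ∧
      Nonempty (G ≃* PSL(2, F)) := by
  rcases hn.eq_or_lt with rfl | hn
  · have := Fact.mk Nat.prime_five
    obtain ⟨e1⟩ := psl2_four_five (F := F) (by rwa [Nat.card_eq_fintype_card])
    exact ⟨ZMod 5, inferInstance, inferInstance, by simp, by simp, ⟨e.trans e1⟩⟩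
  · obtain ⟨k, rfl⟩ : ∃ k, n = k + 3 := ⟨n - 3, by omega⟩
    have : 0 < 2 ^ k := by positivity
    rw [pow_add] at hF
    exact ⟨F, inferInstance, inferInstance, by omega, by omega, ⟨e⟩⟩

end Cfsg.Lib.Recog.Irr2

open Cfsg Cfsg.Agent Cfsg.Lib Cfsg.Lib.Recog Cfsg.Lib.Recog.Irr2 Subgroup

/-- S4030, conditional on the listed gates (universe list must stay the statement's own). -/
theorem Cfsg.Agent.Cond.S4030.{u} [Gate.S1169.{u}] [Gate.S0506.{u}] [Gate.BenderCore.{u}] :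
    Gate.S4030.{u} := ⟨by
  intro G _ _ _ hna hirr
  have := Fact.mk Nat.prime_two
  have key : ∀ x g : G, (∃ k, x ^ 2 ^ k = 1) → g * x * g⁻¹ = x⁻¹ → x * x = 1 := by
    rintro x g ⟨k, hk⟩ h
    have := mem_Cz'.mp (hirr x (fun r hr hd => (Nat.prime_dvd_prime_iff_eq hr Nat.prime_two).mp
      (hr.dvd_of_dvd_pow (hd.trans (orderOf_dvd_of_pow_eq_one hk))))
      (mem_Nz.mpr (h ▸ inv_mem (mem_zpowers x))))
    exact mul_eq_one_iff_eq_inv.mpr (this.symm.trans h)
  obtain ⟨S⟩ : Nonempty (Sylow 2 G) := inferInstance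
  have comm : ∀ a ∈ (S : Subgroup G), ∀ b ∈ (S : Subgroup G), a * a = 1 → b * b = 1 →
      a * b = b * a := fun a ha b hb ha2 hb2 => by
    obtain ⟨k, hk⟩ := S.isPGroup' ⟨a * b, mul_mem ha hb⟩
    have h1 := inv_eq_of_mul_eq_one_right ha2
    have h2 := inv_eq_of_mul_eq_one_right hb2
    have := key (a * b) a ⟨k, congrArg Subtype.val hk⟩ (by
      rw [mul_inv_rev, h1, h2, ← mul_assoc, ha2, one_mul])
    rw [← inv_eq_of_mul_eq_one_right this, mul_inv_rev, h1, h2]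
  let A : Subgroup G :=
    { carrier := {a | a ∈ (S : Subgroup G) ∧ a * a = 1}
      one_mem' := ⟨one_mem _, mul_one 1⟩
      mul_mem' := fun {a b} ha hb => ⟨mul_mem ha.1 hb.1, by
        calc a * b * (a * b) = a * (b * a) * b := by group
          _ = a * a * (b * b) := by rw [← comm a ha.1 b hb.1 ha.2 hb.2]; group
          _ = 1 := by rw [ha.2, hb.2, one_mul]⟩
      inv_mem' := fun {a} ha => ⟨inv_mem ha.1, by rw [← mul_inv_rev, ha.2, inv_one]⟩ }
  have hs : ¬ Group.IsSolvable G := fun _ => hna ⟨⟨IsSimpleGroup.comm_iff_isSolvable.mpr ‹_›⟩⟩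
  have hA : A ≠ ⊥ := by
    obtain ⟨t, ht, ho⟩ := CITCor.exists_invol_of_even (H := (S : Subgroup G)) fun ho =>
      hs (FT.odd_order_solvable (by
        rw [← (S : Subgroup G).card_mul_index]
        exact ho.mul (Nat.odd_iff.mpr (by have := S.not_dvd_index; omega))))
    exact fun e => (CITCor.sq_of_orderOf ho).1 (mem_bot.mp (e ▸ ⟨ht, (CITCor.sq_of_orderOf ho).2⟩ :
      t ∈ (⊥ : Subgroup G)))
  rcases Gate.S1169.out S A hA ⟨⟨fun a b => Subtype.ext (comm a a.2.1 b b.2.1 a.2.2 b.2.2)⟩⟩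
    ⟨fun a ha => ha.1, fun a ha g hg => ⟨hg, by rw [conj_mul, ha.2]; simp⟩⟩ with h | ⟨H, hH⟩
  · rcases Gate.S0506.out hna S h with ⟨n, hn, F, _, _, hF, ⟨e⟩⟩ | ⟨F, i1, i2, hF, ⟨e⟩⟩ | h | h
    · obtain ⟨F, i1, i2, h1, h2⟩ := psl2_even hn hF e
      exact Or.inl ⟨F, i1, i2, h1.le, h2⟩
    · exact Or.inl ⟨F, i1, i2, three_lt_of_simple (Nat.odd_iff.mpr (by omega)) e, Or.inr hF, ⟨e⟩⟩
    · exact Or.inr (Or.inr (Or.inl h))
    · exact Or.inr (Or.inr (Or.inr h))
  rcases ((Bender.core_of_gate G).simple (Local.isStronglyEmbedded_iff_se.mp hH)).1.flat with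
    ⟨F, _, _, n, hn, hF, ⟨e⟩⟩ | h | ⟨F, _, _, n, hn, hF, ⟨e⟩⟩
  · obtain ⟨F, i1, i2, h1, h2⟩ := psl2_even hn hF e
    exact Or.inl ⟨F, i1, i2, h1.le, h2⟩
  · exact Or.inr (Or.inl (Bender.isSuzuki_of_isoSuzuki h))
  · obtain ⟨g, h, h1, h2, h3⟩ := exists_inverted hF
    refine (h1 (e.symm.injective ?_)).elim
    rw [map_mul, map_one]
    refine key _ (e.symm h) ⟨2, by
      rw [← map_pow, show 2 ^ 2 = 2 * 2 from rfl, pow_mul, sq, sq, h2, map_one]⟩ ?_
    rw [← map_inv, ← map_inv, ← map_mul, ← map_mul, h3, mul_inv_cancel_right]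
    congr 1
    exact eq_inv_of_mul_eq_one_left (by rw [← h2]; group)⟩
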