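import Cfsg.Agent.Gate.S2913
import Cfsg.Agent.Recog.Mc3L

set_option autoImplicit false
open Cfsg Cfsg.Agent Cfsg.Lib.Mc3

/-- S2913, conditional on the listed gates (universe list must stay the statement's own). -/
theorem Cfsg.Agent.Cond.S2913.{u} [Gate.S3329.{u}] [Gate.S3330.{u}] [Gate.S3334.{u}] :
    Gate.S2913.{u} := ⟨by
  intro G _ _ hO Z hZ S J hJS hJ hJcard hQ hQcard hQn hexp ⟨e⟩ hJF hJn ⟨eM⟩
  obtain ⟨S', Q, L, z, pL, hS, l⟩ := exists_LS' hZ S hQ hQcard hexp e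
  obtain ⟨M, pM, m⟩ := exists_MS'' (hS ▸ hJS) hJ hJcard eM
  obtain ⟨pM', h⟩ := exists_hyp l m
  obtain ⟨t, f, u, h⟩ := h.exists_fr
  exact conclude' (h.main fun c _ hc => h.hy_weak hc)⟩
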