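import Cfsg.Agent.Gate.S2964
import Cfsg.Agent.Gate.KGood

set_option autoImplicit false
open Cfsg Cfsg.Agent Cfsg.Lib Subgroup QuotientGroup

/-- S2964, conditional on the outer automorphism groups of the known simple groups. -/
theorem Cfsg.Agent.Cond.S2964.{u} [Gate.KGood.{u}] : Gate.S2964.{u} := ⟨by
  intro K _ _ _ hK r hr hrK R
  by_cases hc : IsMulCommutative K
  · have : Fact (Nat.card K).Prime := ⟨by
      let _ : CommGroup K := { (inferInstance : Group K) with mul_comm := hc.1.1 }
      exact IsSimpleGroup.prime_card⟩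
    have : IsCyclic K := isCyclic_of_prime_card (p := Nat.card K) rfl
    have : IsCyclic (MulAut K) := isCyclic_of_surjective (IsCyclic.mulAutMulEquiv K).symm.toMonoidHom
      (MulEquiv.surjective _)
    infer_instance
  have h := ((Gate.KGood.out K hc (KCongr.known_of_surjective hK ⊤ hc topEquiv.toMonoidHom
    (MulEquiv.surjective _))).2 r hr.out hrK).1 _ (R.isPGroup'.map (mk' (Inn K)))
  exact QT.isCyclic_of_hom (mk' (Inn K)) hr.out (by
    rw [ker_mk']; exact fun hd => hrK (hd.trans (card_range_dvd _))) R.isPGroup' h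
    fun x hx => mem_map_of_mem _ hx⟩
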