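import Cfsg.Agent.Gate.S3018
import Cfsg.Agent.FPFC.Basic
import Cfsg.Agent.S3016
import Cfsg.Agent.S3017
import Cfsg.Agent.S0205

set_option autoImplicit false
open Cfsg Cfsg.Agent Cfsg.Lib Cfsg.Lib.FPFC Subgroup

/-- S3018, conditional on the listed gates (universe list must stay the statement's own). -/
theorem Cfsg.Agent.Cond.S3018.{u} [Gate.FPFCop.{u}] : Gate.S3018.{u} := ⟨by
  intro G _ _ p _ H hHp hHab hcl
  have hH : Group.IsSolvable H := by
    have := hHp.isNilpotent
    infer_instance
  have key : ∀ O : Subgroup G, O.Normal → normalizer (H : Set G) ⊔ O = ⊤ → (O ⊔ H).Normal := by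
    intro O _ h
    rw [← normalizer_eq_top_iff, eq_top_iff, ← h]
    exact sup_le ((le_inf ((normalizer_eq_top O).ge.trans' le_top) le_rfl).trans
      (normalizer_inf_normalizer_le_normalizer_sup O H)) (le_sup_left.trans le_normalizer)
  by_cases hp : p = 2
  · subst hp
    exact ⟨_, key _ inferInstance (S3017.result H hHp hHab hcl),
      solv_sup (by rw [normalizer_eq_top]; exact le_top)
        (S0205.result (Nat.coprime_two_right.mp (Solv.coprime_card_pPrimeCore 2 G))) hH, le_sup_right⟩
  obtain ⟨h1, h2⟩ := S3016.result hp H hHp hHab hcl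
  have := key _ inferInstance h2
  have h3 : normalClosure (H : Set G) ≤ pPrimeCore p G ⊔ H := normalClosure_le_normal (N := pPrimeCore p G ⊔ H) (le_sup_right (a := pPrimeCore p G))
  have h4 : H ≤ normalClosure (H : Set G) := subset_normalClosure
  have h5 : (Nat.card H).Coprime (Nat.card (pPrimeCore p G)) := by
    obtain ⟨k, hk⟩ := hHp.exists_card_eq
    rw [hk]
    exact (Solv.coprime_card_pPrimeCore p G).symm.pow_left k
  have h6 : (pPrimeCore p G ⊓ normalClosure (H : Set G)) ⊔ H = normalClosure (H : Set G) := by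
    refine le_antisymm (sup_le inf_le_right h4) fun x hx => ?_
    have hx' : x ∈ ((pPrimeCore p G ⊔ H : Subgroup G) : Set G) := h3 hx
    rw [normal_mul] at hx'
    obtain ⟨a, ha, b, hb, rfl⟩ := hx'
    exact mul_mem_sup ⟨ha, (Subgroup.mul_mem_cancel_right _ (h4 hb)).mp hx⟩ hb
  refine ⟨normalClosure (H : Set G), inferInstance, ?_, h4⟩
  rw [← h6]
  refine solv_sup (by rw [normalizer_eq_top]; exact le_top) (Gate.FPFCop.out (A := H)
    (by rw [normalizer_eq_top]; exact le_top) (h5.coprime_dvd_right (card_dvd_of_le inf_le_left))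
    fun x hx hc _ => ?_) hH
  have h7 : x ∈ H := h1.le ⟨hx.2, centralizer_le_normalizer _ hc⟩
  exact orderOf_eq_one_iff.mp (Nat.eq_one_of_dvd_coprimes h5 (H.orderOf_dvd_natCard h7)
    ((pPrimeCore p G).orderOf_dvd_natCard hx.1))⟩
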