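import Cfsg.Agent.Gate.S3039
import Cfsg.Agent.FPFC.Basic

set_option autoImplicit false
open Cfsg Cfsg.Agent Cfsg.Lib Cfsg.Lib.FPFC Subgroup

/-- S3039, conditional on the listed gates (universe list must stay the statement's own). -/
theorem Cfsg.Agent.Cond.S3039.{u} [Gate.FPFCop.{u}] : Gate.S3039.{u} := ⟨by
  intro G _ _ α r s t _ _ _ _ _ _ hord hcop _ hfpf
  exact solv_aut (zpowers α) (by rwa [Nat.card_zpowers, hord]) fun x hx _ => hfpf x (hx α (mem_zpowers α))⟩
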