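import Cfsg.Agent.Gate.S3066
import Cfsg.Agent.Gate.S1169
import Cfsg.Agent.Bender.Main
import Cfsg.Agent.Bender.Orbit
import Cfsg.Agent.Block.PerfAut

set_option autoImplicit false
open Cfsg Cfsg.Agent Cfsg.Lib Cfsg.Lib.Char Cfsg.Lib.Block.Princ Cfsg.Lib.Block.Aniso Subgroup
open scoped Pointwise

/-- S3066, conditional on the listed gates. -/
theorem Cfsg.Agent.Cond.S3066.{u} [Gate.S1169.{u}] [Gate.BenderCore.{u}] [Gate.S1136.{u, u}] :
    Gate.S3066.{u} := ⟨by
  intro G _ _ _ _ S hS1 h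
  refine isSolvable_out_of_perfect
    (odd_normal_eq_bot_of_simple (two_dvd_card_of_sylow_ne_bot hS1)) S fun A hA hp φ hφ s hs => ?_
  let f := restrictAut A.subtype (S : Subgroup G) fun a => hA a a.2
  suffices h0 : f.range = ⊥ from
    (congrArg Subtype.val (DFunLike.congr_fun (mem_bot.1 (h0.le ⟨⟨φ, hφ⟩, rfl⟩)) ⟨s, hs⟩) :)
  have hf : ⁅f.range, f.range⁆ = f.range := by
    have : ⁅(⊤ : Subgroup A), ⊤⁆ = ⊤ := map_injective A.subtype_injective (by
      rw [map_commutator, ← MonoidHom.range_eq_map, range_subtype, hp])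
    rw [MonoidHom.range_eq_map, ← map_commutator, this]
  let ν := (S : Subgroup G).normalizerMonoidHom
  have hn : f.range ≤ normalizer (ν.range : Set _) := le_normalizer_iff.2 (by
    rintro _ ⟨a, rfl⟩ _ ⟨n, rfl⟩
    refine ⟨⟨a.1 n, mem_normalizer_fintype fun x hx => ?_⟩, MulEquiv.ext fun x => Subtype.ext ?_⟩
    · have := hA a a.2 _ ((mem_normalizer_iff.1 n.2 _).1 (hA _ a⁻¹.2 x hx))
      rw [map_mul, map_mul, map_inv] at this
      exact (congrArg (fun y => a.1 n * y * (a.1 n)⁻¹ ∈ (S : Subgroup G))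
        (a.1.apply_symm_apply x)).mp this
    · change a.1 n * x * (a.1 n)⁻¹ = a.1 (n * a.1⁻¹ x * (n : G)⁻¹)
      simp)
  have hodd : Odd ((S : Subgroup G).subgroupOf (normalizer ((S : Subgroup G) : Set G))).index := by
    rw [← Nat.not_even_iff_odd, even_iff_two_dvd]
    exact fun h2 => S.not_dvd_index (h2.trans (relIndex_dvd_index_of_le le_normalizer))
  rcases h with ⟨a, b, h⟩ | ⟨⟨a, b, c, h⟩, g, hg, ho, hgc⟩ | ⟨h1, h2⟩
  · exact eq_bot_of_two_gen S.isPGroup' hf h
  · have := FT.odd_order_solvable hodd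
    have : Group.IsNilpotent ((S : Subgroup G).subgroupOf (normalizer ((S : Subgroup G) : Set G))) :=
      S.isPGroup'.comap_subtype.isNilpotent
    have : Group.IsSolvable (normalizer ((S : Subgroup G) : Set G)) :=
      Group.isSolvable_of_ker_le_range ((S : Subgroup G).subgroupOf _).subtype
        (QuotientGroup.mk' ((S : Subgroup G).subgroupOf _)) (by simp)
    refine eq_bot_of_three_gen S.isPGroup' hf h
      (Group.isSolvable_of_surjective ν.rangeRestrict_surjective) hn ⟨⟨g, hg⟩, rfl⟩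
      (ho.of_dvd_nat ((orderOf_map_dvd ν _).trans (orderOf_mk _ _).dvd)) fun e => hgc ?_
    have h3 : (⟨g, hg⟩ : normalizer ((S : Subgroup G) : Set G)) ∈ ν.ker := e
    rwa [normalizerMonoidHom_ker, mem_subgroupOf] at h3
  have hc : ∀ x ∈ (S : Subgroup G), x ^ 2 = 1 → ∀ y ∈ (S : Subgroup G), y ^ 2 = 1 →
      x * y = y * x := fun x hx hx2 y hy hy2 => by
    by_cases hx1 : x = 1
    · simp [hx1]
    by_cases hy1 : y = 1
    · simp [hy1]
    exact h1 x hx y hy (orderOf_eq_prime hx2 hx1) (orderOf_eq_prime hy2 hy1)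
  let Ω : Subgroup (S : Subgroup G) :=
    { carrier := {x | x ^ 2 = 1}
      one_mem' := one_pow 2
      mul_mem' := fun {a b} ha hb => by
        rw [Set.mem_ofPred_eq, Commute.mul_pow (Subtype.ext (hc a a.2 (congrArg Subtype.val ha) b b.2
          (congrArg Subtype.val hb))), ha, hb, one_mul]
      inv_mem' := fun {a} ha => by rw [Set.mem_ofPred_eq, inv_pow, ha, inv_one] }
  have hΩ : ∀ x ∈ (S : Subgroup G), x ^ 2 = 1 → x ∈ centralizer ((S : Subgroup G) : Set G) := by
    rcases Gate.S1169.out S (Ω.map (S : Subgroup G).subtype) (by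
        have := (nontrivial_iff_ne_bot _).2 hS1
        obtain ⟨n, hn0, hn⟩ := S.isPGroup'.nontrivial_iff_card.1 this
        obtain ⟨t, ht⟩ := exists_prime_orderOf_dvd_card' 2 (hn ▸ dvd_pow_self 2 hn0.ne')
        refine fun e => ?_
        have h3 : (t : G) = 1 := e.le (mem_map_of_mem _ (show t ^ 2 = 1 from
          orderOf_dvd_iff_pow_eq_one.1 ht.dvd))
        simp [show t = 1 from Subtype.ext h3] at ht)
      ⟨⟨by
        rintro ⟨_, a, ha, rfl⟩ ⟨_, b, hb, rfl⟩
        exact Subtype.ext (hc a a.2 (congrArg Subtype.val ha) b b.2 (congrArg Subtype.val hb))⟩⟩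
      ⟨map_subtype_le _, by
        rintro _ ⟨a, ha, rfl⟩ g hg
        refine ⟨⟨_, hg⟩, Subtype.ext ?_, rfl⟩
        change (g * a * g⁻¹) ^ 2 = 1
        rw [conj_pow, show (a : G) ^ 2 = 1 from congrArg Subtype.val ha]
        simp⟩ with hab | ⟨H, hH⟩
    · exact fun x hx _ => (S : Subgroup G).le_centralizer hx
    · obtain ⟨-, t, Q, hQ, hQ2⟩ := (Bender.core_of_gate G).simple
        (Local.isStronglyEmbedded_iff_se.1 hH)
      obtain ⟨T, rfl⟩ := Bender.exists_sylow_eq_Q hQ hQ2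
      obtain ⟨g, rfl⟩ := MulAction.exists_smul_eq G S T
      intro x hx hx2 y hy
      by_cases hx1 : x = 1
      · simp [hx1]
      have h3 := smul_mem_pointwise_smul x (MulAut.conj g) _ hx
      have h4 := Bender.II_comm_Q hQ hQ2 ⟨hQ.le h3, by simpa using hx1, by
        rw [← smul_mul', ← pow_two, hx2, smul_one]⟩ (smul_mem_pointwise_smul y (MulAut.conj g) _ hy)
      rw [← smul_mul', ← smul_mul'] at h4
      exact (MulAction.injective _ h4).symm
  let r := restrictAut (MonoidHom.id (MulAut (S : Subgroup G))) Ω fun a x hx => by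
    change a x ^ 2 = 1
    rw [← map_pow, show x ^ 2 = 1 from hx, map_one]
  have h3 := eq_bot_of_transitive (A := f.range.map r) (K := ν.range.map r)
    (fun x => Subtype.ext x.2) (by rw [← map_commutator, hf]) (by
      rw [← MonoidHom.range_comp, ← index_ker]
      exact hodd.of_dvd_nat (index_dvd_of_le fun n hn => MulEquiv.ext fun x => Subtype.ext
        (Subtype.ext (mul_inv_eq_iff_eq_mul.2 (hΩ x x.1.2 (congrArg Subtype.val x.2) n hn)))))
    ((map_mono hn).trans (le_normalizer_map r)) fun x y hx hy => by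
      have e1 : ((x : (S : Subgroup G)) : G) ^ 2 = 1 := congrArg Subtype.val x.2
      have e2 : ((y : (S : Subgroup G)) : G) ^ 2 = 1 := congrArg Subtype.val y.2
      obtain ⟨g, hg⟩ := h2 x x.1.2 y y.1.2 (orderOf_eq_prime e1 (by simpa using hx))
        (orderOf_eq_prime e2 (by simpa using hy))
      obtain ⟨n, hn, e⟩ := S.conj_eq_normalizer_conj_of_mem_centralizer x g⁻¹ (hΩ _ x.1.2 e1)
        (by rw [inv_inv, hg]; exact hΩ _ y.1.2 e2)
      refine ⟨_, mem_map_of_mem r ⟨⟨n⁻¹, inv_mem hn⟩, rfl⟩, Subtype.ext (Subtype.ext ?_)⟩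
      change n⁻¹ * x * n⁻¹⁻¹ = y
      rw [inv_inv, ← e, inv_inv, hg]
  exact eq_bot_of_fix_omega S.isPGroup' hf
    (fun x hx => mem_center_iff.2 fun y => Subtype.ext (hΩ x x.2 (congrArg Subtype.val hx) y y.2))
    fun a ha x hx => (congrArg Subtype.val
      (DFunLike.congr_fun (mem_bot.1 (h3.le (mem_map_of_mem r ha))) ⟨x, hx⟩) :)⟩
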