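import Cfsg.Agent.Gate.S3099
import Cfsg.Agent.Rank2.QuatSylow

set_option autoImplicit false
open Cfsg Cfsg.Agent Cfsg.Lib.Rank2 Cfsg.Lib.Solv Cfsg.Lib.Trans

/-- S3099, conditional on the listed gates (universe list must stay the statement's own). -/
theorem Cfsg.Agent.Cond.S3099.{u} [Gate.S0483.{u}] : Gate.S3099.{u} := ⟨by
  intro X _ _ hP h1 h2
  have : Nontrivial (X ⧸ oddCore X) := QuotientGroup.nontrivial_iff.2 fun h =>
    coprime_iff_not_dvd'.1 (pPrimeCore_eq_top_iff.1 h) h2.two_dvd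
  refine (perfect_uInv (pPrimeCore_quotient_pPrimeCore 2 X) (UInv.of_pRankLE h1).quot).imp id
    fun h => ⟨h.1, h.2, fun L hL => ?_⟩
  have h3 : L.index = 2 := hL.index_eq_card.trans h.1
  have := Subgroup.normal_of_index_eq_two h3
  rw [pResidual_eq_top_iff.1 pResidual_eq_top_of_isPerfect L this ⟨1, h3⟩,
    Subgroup.index_top] at h3
  omega⟩
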