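import Cfsg.Agent.Gate.S3109
import Cfsg.Agent.Sig2.Final

set_option autoImplicit false
open Cfsg Cfsg.Agent Cfsg.Lib Cfsg.Lib.Trans Cfsg.Lib.Sig2

/-- S3109, conditional on the listed gates. -/
theorem Cfsg.Agent.Cond.S3109.{u} [Gate.S0217.{u}] [Gate.S0205.{u}] [Gate.BenderCore.{u}]
    [Gate.S1136.{u, u}] : Gate.S3109.{u} := ⟨by
  intro G _ _ _ _ h2c S A hAn hAab _ hA3 t ht
  obtain ⟨hd, B, hBS, hB⟩ := allDeep_of_normal S.isPGroup' hAn hAab hA3
  exact le_bot_iff.1 (Bender.oddCore_eq_bot_of_simple hB.even ▸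
    th_le_oddCore_of_allDeep (constr_of_normalizers h2c) (isSylowIn_top S) hB hBS hd ht)⟩
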