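import Cfsg.Agent.Gate.S3110
import Cfsg.Agent.Sig2.Final

set_option autoImplicit false
open Cfsg Cfsg.Agent Cfsg.Lib Cfsg.Lib.Trans Cfsg.Lib.Sig2

/-- S3110, conditional on the listed gates. -/
theorem Cfsg.Agent.Cond.S3110.{u} [Gate.S0217.{u}] [Gate.S0205.{u}] : Gate.S3110.{u} := ⟨by
  intro G _ _ h2c S A hAn hAab _ hA3 S'
  have hc := constr_of_normalizers h2c
  obtain ⟨hd, B, hBS, hB⟩ := allDeep_of_normal S.isPGroup' hAn hAab hA3
  obtain ⟨g, -, hg⟩ := (isSylowIn_top S').exists_cj_eq (isSylowIn_top S)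
  have hd' := hd.cj g
  have hBS' := cj_mono g hBS
  rw [hg] at hd' hBS'
  obtain ⟨W, hW, hSM⟩ := exists_ctx hc.isBalanced (isSylowIn_top S') (hB.cj g) hBS'
  refine ⟨W, hW.odd, fun D hD h1 => ?_⟩
  obtain ⟨V, hVD, hV⟩ := exists_E4_of_not_pRankLE h1
  have h2 : W = WW D := by
    refine le_antisymm ?_ (WW_le fun b hb hb1 => ?_)
    · rw [← hW.eq V hV.2 ((hd' V (hVD.trans hD) hV).mono hSM)]
      exact WW_mono hVD
    · have hbS : Subgroup.zpowers b ≤ S' := Subgroup.zpowers_le.2 (hD hb)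
      obtain ⟨t, ht, ht2, hle⟩ := hc.th_le_th (S'.isPGroup'.to_le hbS) hb1
      exact hle.trans (hW.th_le (Local.SE.ne_one_of_orderOf_two ht2)
        ((hd'.zpowers S'.isPGroup' (hB.cj g) hBS' (hbS ht)
          (Local.SE.mul_self_of_orderOf_two ht2)).mono hSM))
  exact ⟨h2, h2 ▸ normalizer_le_normalizer_WW D⟩⟩
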