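import Cfsg.Agent.Gate.S3119
import Cfsg.Agent.Rank2.WeakEmb

set_option autoImplicit false
open Cfsg Cfsg.Agent Cfsg.Lib.Rank2 Subgroup

/-- S3119, conditional on the listed gates (universe list must stay the statement's own). -/
theorem Cfsg.Agent.Cond.S3119.{u} [Gate.R2F.{u}] : Gate.S3119.{u} := ⟨by
  intro X _ _ S hS h2 H ⟨y, hy, hy2⟩ _ hcov _ _
  refine weak_core' S hS h2 (H := H) ?_ ?_ hy hy2 fun y hy hy2 c hc => ?_
  · rw [card_map_of_injective (subtype_injective _)]
    exact Nat.coprime_two_right.1 (Cfsg.Lib.Solv.coprime_card_pPrimeCore 2 H)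
  · have := le_normalizer_map (H := oddCore H) H.subtype
    rwa [normalizer_eq_top, ← MonoidHom.range_eq_map, range_subtype] at this
  · obtain ⟨h, hh, o, ho, e⟩ := hcov y hy hy2 c hc
    exact ⟨h, hh.1, o, ho, e⟩⟩
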