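import Cfsg.Agent.Gate.S3227
import Cfsg.Agent.Gate.S1700
import Cfsg.Agent.ThT.Main

set_option autoImplicit false
open Cfsg Cfsg.Agent Cfsg.Lib.ThT

/-- S3227, conditional on the listed gates (universe list must stay the statement's own). -/
theorem Cfsg.Agent.Cond.S3227.{u} [Gate.S1700] : Gate.S3227.{u} := ⟨by
  intro G _ _ z hz hG hJ hJc hCJ _ e
  obtain ⟨p, H⟩ := exists_hyp hz _ hJ hJc hCJ e
  obtain ⟨⟨f, hf⟩, h⟩ := H.main fun h =>
    hG ((sup_comm _ _).trans (Lib.Bender.oddCore_sup_centralizer_of_isolated h))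
  have := Gate.S1700.out.1
  have : Nontrivial G := ⟨⟨z, 1, H.ne_one⟩⟩
  obtain ⟨φ⟩ := iso_of_surj hf
  exact ⟨φ.isSimpleGroup, (Nat.card_congr φ.toEquiv).trans Gate.S1700.out.2, h, ⟨φ⟩⟩⟩
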