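import Cfsg.Agent.Gate.S3234
import Cfsg.Agent.Gate.S1715
import Cfsg.Agent.Gate.S5404
import Cfsg.Agent.Inst.Fi24Y
import Cfsg.Agent.SporChar.FiGD
import Cfsg.Agent.Spor.Fi24Order
import Cfsg.Agent.Spor.TTStruct
import Cfsg.Agent.Bender.TwoRank

set_option autoImplicit false
open Cfsg Cfsg.Agent Subgroup Cfsg.Lib Cfsg.Lib.SporChar Cfsg.Lib.SporChar.Fi Cfsg.Lib.Local
  Cfsg.Lib.Spor Cfsg.Lib.LX Cfsg.Lib.Trans

/-- S3234, conditional on the listed gates (universe list must stay the statement's own). -/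
theorem Cfsg.Agent.Cond.S3234.{u, v} [Gate.S1715.{u}] [Gate.S5404.{u}] : Gate.S3234.{u, v} := ⟨by
  intro G _ _ z hz L _ _ hL hJ hJc hCJ M K hMn hKn hJM hMK hM3 _ e
  have hp := pre_of_pCore hz hJ hCJ
  obtain ⟨e1⟩ := U4.nonempty_equiv_PSU hL
  obtain ⟨e2⟩ := U4.nonempty_equiv_PSU Class.card_GF9
  obtain ⟨π, ν, h, hK⟩ := exists_gd hp hJc hJM hMK hM3 (e.trans e1.symm)
  replace e := e.trans (e1.symm.trans e2)
  by_cases wc : ∀ u, IsConj z u → u ∈ qOf z → u = z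
  · exact .inl ((sup_comm _ _).trans (Bender.oddCore_sup_centralizer_of_isolated (h.isolated h.hi wc)))
  push Not at wc
  obtain ⟨_, hu, hin, hne⟩ := wc
  obtain ⟨g, rfl⟩ := isConj_iff.1 hu
  have pr := hp.pair hne hin
  have hF := genFitting_eq_pCore_iff.2 hCJ
  have hi : K.index = K0.relIndex π.range := by rw [← hK, index_comap]
  have mJ : ∀ c : centralizer ({z} : Set G), (c : G) ∈ qOf z ↔ c ∈ pCore 2 _ := fun c =>
    mem_map_iff_mem (subtype_injective _)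
  rcases h.range_cases pr with hr | hr
  · rw [hr, relIndex_L0.1] at hi
    exact .inr (.inl ⟨hi, Gate.S1715.out z hz _ M K hF hJ hJc hJM hMK hM3 _ Class.card_GF9 e hi
      ⟨g, ⟨hp.le_cent hin, (mJ _).1 hin⟩, hne⟩⟩)
  refine .inr (.inr ⟨by rw [hi, hr, ← relIndex_mul_relIndex K0 L0 N0 le_sup_left L0_le,
    relIndex_L0.1, relIndex_L0.2], fun x => ?_, ?_⟩)
  · induction x using QuotientGroup.induction_on
    rw [← QuotientGroup.mk_pow, QuotientGroup.eq_one_iff, ← hK, mem_comap, sq, map_mul]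
    exact sq_mem_K0 (h.mem _)
  obtain ⟨H, hH, hR, hm⟩ := h.exists_index_two pr (hr.ge tau_mem)
  have := normal_of_index_eq_two hH
  have hQ : qOf z ≤ H := fun a ha => (hm ⟨a, hp.le_cent ha⟩).2 (by
    rw [(h.ker ⟨a, _⟩).2 ha]; exact one_mem _)
  obtain ⟨g, hg, hin, hne⟩ : ∃ g ∈ H, g * z * g⁻¹ ∈ qOf z ∧ g * z * g⁻¹ ≠ z := by
    by_cases hg : g ∈ H
    · exact ⟨g, hg, hin, hne⟩
    obtain ⟨y, hy⟩ := hr.ge tau_mem
    refine ⟨g * y, (mul_mem_iff_of_index_two hH).2 (iff_of_false hg fun c =>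
      tau_not_L0 (hy ▸ (hm y).1 c)), ?_⟩
    rw [show g * y * z * (g * y)⁻¹ = g * (y * z * (y : G)⁻¹) * g⁻¹ by group, mem_cent_iff_conj.1 y.2]
    exact ⟨hin, hne⟩
  let z₀ : H := ⟨z, hQ hp.mem⟩
  have mC : ∀ c : H, c ∈ centralizer ({z₀} : Set H) ↔ (c : G) ∈ centralizer ({z} : Set G) := fun c => by
    rw [mem_C, mem_C, Subtype.ext_iff]; rfl
  let ι : centralizer ({z₀} : Set H) →* centralizer ({z} : Set G) :=
    (H.subtype.comp (Subgroup.subtype _)).codRestrict _ fun c => (mC c).1 c.2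
  have hι : Function.Injective ι := fun a b e =>
    Subtype.ext (Subtype.ext (congrArg (fun x : centralizer ({z} : Set G) => (x : G)) e))
  have rι : ι.range = H.subgroupOf _ := le_antisymm (by rintro _ ⟨c, rfl⟩; exact c.1.2)
    fun c hc => ⟨⟨⟨c, hc⟩, (mC _).2 c.2⟩, rfl⟩
  have hKr : K ≤ ι.range := rι ▸ fun c hc => (hm c).2 (mem_sup_left (hK.ge hc))
  have bj : ∀ X ≤ K, Function.Bijective (ι.subgroupComap X) := fun X hX =>
    ⟨fun a b e => Subtype.ext (hι (congrArg Subtype.val e)), fun x => (hKr (hX x.2)).elim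
      fun c hc => ⟨⟨c, show ι c ∈ X from hc ▸ x.2⟩, Subtype.ext hc⟩⟩
  have hJK := hJM.trans hMK
  have mp : (((pCore 2 _).comap ι).map (Subgroup.subtype _)).map H.subtype = qOf z := by
    rw [map_map, show H.subtype.comp (Subgroup.subtype _) = (Subgroup.subtype _).comp ι from rfl,
      ← map_map, map_comap_eq_self (hJK.trans hKr)]; rfl
  have hF₀ : generalizedFittingSubgroup (centralizer ({z₀} : Set H)) = (pCore 2 _).comap ι := by
    refine map_injective (subtype_injective _) (map_injective H.subtype_injective ?_)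
    rw [mp, map_genFitting_subtype_map_of_injective _ H.subtype_injective,
      show (centralizer ({z₀} : Set H)).map H.subtype = H ⊓ centralizer {z} from le_antisymm
        (by rintro _ ⟨c, hc, rfl⟩; exact ⟨c.2, (mC c).1 hc⟩)
        fun c hc => ⟨⟨c, hc.1⟩, (mC _).2 hc.2, rfl⟩,
      ← map_genFitting_subtype_subgroupOf inf_le_right, inf_subgroupOf_right,
      map_genFitting_subtype_eq_inf_of_normal (H.subgroupOf _), hF,
      inf_eq_left.2 (rι ▸ hJK.trans hKr)]; rfl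
  have a1 : orderOf z₀ = 2 := (orderOf_coe z₀).symm.trans hz
  have a2 := isExtraspecial_of_mulEquiv (MulEquiv.ofBijective _ (bj _ hJK)).symm hJ
  have a3 := Nat.card_eq_of_bijective _ (bj _ hJK)
  have a4 := (Nat.card_eq_of_bijective _ (bj _ hMK)).trans (hM3.trans (congrArg _ a3.symm))
  have a5 := (QuotientGroup.congr ((M.comap ι).subgroupOf (K.comap ι)) (M.subgroupOf K)
    (MulEquiv.ofBijective _ (bj K le_rfl)) (map_comap_eq_self_of_surjective
      (f := ι.subgroupComap K) (bj K le_rfl).2 (M.subgroupOf K))).trans e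
  have a6 : (K.comap ι).index = 2 := by
    rw [index_comap, rι, show H.subgroupOf _ = L0.comap π from Subgroup.ext hm, ← hK,
      relIndex_comap, map_comap_eq_self (hr ▸ L0_le), relIndex_L0.1]
  have a7 : ∃ g : H, (∃ hq : g * z₀ * g⁻¹ ∈ centralizer ({z₀} : Set H),
      (⟨g * z₀ * g⁻¹, hq⟩ : centralizer ({z₀} : Set H)) ∈ (pCore 2 _).comap ι) ∧ g * z₀ * g⁻¹ ≠ z₀ :=
    ⟨⟨g, hg⟩, ⟨(mC _).2 (hp.le_cent hin), (mJ _).1 hin⟩, fun c => hne (congrArg Subtype.val c)⟩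
  obtain ⟨i⟩ := Gate.S1715.out z₀ a1 _ _ _ hF₀ a2 (a3.trans hJc) (comap_mono hJM) (comap_mono hMK) a4 _
    Class.card_GF9 a5 a6 a7
  obtain ⟨S, hS⟩ := (hp.isPGroup.comap_subtype (K := H)).exists_le_sylow
  obtain ⟨D, hD, hM⟩ := Gate.S5404.out H hH z₀ a1 _ _ _ hF₀ a2 (a3.trans hJc) (comap_mono hJM)
    (comap_mono hMK) a4 _ Class.card_GF9 a5 a6 a7 ⟨S, hS hp.mem, fun x hx =>
      mem_C.1 ((mC x).2 (hp.le_cent_of_isPGroup (S.2.map H.subtype)
        (fun a ha => ⟨⟨a, hQ ha⟩, hS ha, rfl⟩) ⟨x, hx, rfl⟩))⟩ (by rw [mp, hF]; rfl)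
  have hS := @MulEquiv.isSimpleGroup _ _ _ _ Fi24P.simple i
  have := IsTT.of_class hD
  obtain ⟨f, hf, -⟩ := Gate.Fi24Y.out (IsTT.group_of_class hD) (by
    obtain ⟨-, d, hd, c, hc, hdc, -⟩ := hM
    have := nontrivial_coe_of ⟨d, hd, c, hc, fun e => hdc (e ▸ Commute.refl d)⟩
    refine (prim_iff hD.2.2).1 (prim_of_normal hD.2.2 (conn_of_class hD) fun N hN hNZ a b _ => ?_)
    refine ((hS.eq_bot_or_eq_top_of_normal (N.subgroupOf H) inferInstance).resolve_left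
      fun e => hNZ fun n hn => ?_).ge (mem_top ⟨_, mul_mem_of_index_le_two (conn_of_class hD) hH.le a b⟩)
    have k : ∀ x ∈ H, x * n = n * x := fun x hx => by
      have := congrArg Subtype.val ((eq_bot_iff_forall _).1 e ⟨x * n * x⁻¹ * n⁻¹, by
        simpa [mul_assoc] using mul_mem hx (‹H.Normal›.conj_mem _ (inv_mem hx) n)⟩
        (mul_mem (hN.conj_mem n hn x) (inv_mem hn)))
      simpa [mul_inv_eq_iff_eq_mul] using this
    rcases hp.mem_iff.1 (hp.cent fun x hx => k x (hQ hx)) with rfl | rfl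
    · exact one_mem _
    · exact absurd (mul_inv_eq_iff_eq_mul.2 (k g hg)) hne) hM
  have := Nat.finite_of_card_ne_zero (Fi24P.card.trans_ne (by decide))
  exact ⟨(MulEquiv.ofBijective f ((Nat.bijective_iff_surjective_and_card f).2 ⟨hf, by
    rw [Fi24P.card, ← H.card_mul_index, hH, Nat.card_congr i.toEquiv, Fi24P.card_commutator]⟩)).symm⟩⟩
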