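import Cfsg.Agent.Gate.S3244
import Cfsg.Agent.Gate.S0217
import Cfsg.Agent.Inst.S0205
import Cfsg.Agent.ZH8.CharTwoCenter

set_option autoImplicit false
open Cfsg Cfsg.Agent Cfsg.Lib Cfsg.Lib.Trans Cfsg.Lib.Sig2 Cfsg.Lib.ZH8 Subgroup

/-- S3244, conditional on the solvable signalizer functor theorem. -/
theorem Cfsg.Agent.Cond.S3244.{u} [Gate.S0217.{u}] : Gate.S3244.{u} := ⟨by
  intro G _ _ _ hG S A hA hA3 hinv hcon
  have hc := constr_of_normalizers hcon
  have hcm : ∀ a ∈ A, ∀ b ∈ A, a * b = b * a := fun a ha b hb =>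
    mem_centralizer_iff.1 (hA.2.2.ge hb).2 a ha
  let E : Subgroup G :=
    { carrier := {a | a ∈ A ∧ a * a = 1}
      one_mem' := ⟨A.one_mem, one_mul 1⟩
      mul_mem' := fun {a b} ha hb => ⟨A.mul_mem ha.1 hb.1, by
        calc a * b * (a * b) = a * (b * a) * b := by group
          _ = (a * a) * (b * b) := by rw [← hcm a ha.1 b hb.1]; group
          _ = 1 := by rw [ha.2, hb.2, one_mul]⟩
      inv_mem' := fun {a} ha => ⟨A.inv_mem ha.1, by rw [← mul_inv_rev, ha.2, inv_one]⟩ }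
  obtain ⟨B, hBA, hB⟩ := exists_E8_of_not_pRankLE hA3
  have hBE : B ≤ E := fun b hb => ⟨hBA hb, hB.1 b hb⟩
  have hE : E8 E := ⟨fun a ha => ha.2, hB.2.trans (Trans.card_le_of_le hBE)⟩
  have hSE : (S : Subgroup G) ≤ normalizer (E : Set G) := by
    intro s hs
    refine mem_normalizer_of_cj_le (cj_le_iff.2 fun a ha =>
      ⟨mem_normalizer_conj (hA.2.1 hs) ha.1, ?_⟩)
    calc _ = s * (a * a) * s⁻¹ := by group
      _ = 1 := by rw [ha.2]; group
  have hW : WW E = ⊥ := hinv _ (complete hE (IsBalanced.balOn hc.isBalanced hE.1)).1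
    (hSE.trans (normalizer_le_normalizer_WW E))
  have hth : ∀ t : G, orderOf t = 2 → th t = ⊥ := by
    have key : ∀ t ∈ (S : Subgroup G), t * t = 1 → th t = ⊥ := by
      intro t ht ht2
      have hV := e4_inf_centralizer hE ht2 (hSE ht)
      refine le_bot_iff.1 (hV.le_of_forall (odd_th t)
        (inf_le_right.trans (centralizer_le_normalizer_th t)) fun a ha ha1 => ?_)
      refine (hc.th_inf_le ht2 (hE.1.orderOf_eq ha.1 ha1)
        (mem_centralizer_singleton_iff.1 ha.2).symm).trans ?_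
      rw [← hW]; exact th_le_WW ha.1 ha1
    intro t ht
    have ht2 : t * t = 1 := by rw [← pow_two, ← ht, pow_orderOf_eq_one]
    haveI : Fact (Nat.Prime 2) := ⟨Nat.prime_two⟩
    obtain ⟨g, -, hg⟩ := (isSylowIn_top S).exists_cj_le (El.zpowers ht2).isPGroup le_top
    have := key (g * t * g⁻¹) (hg (conj_mem_cj.2 (mem_zpowers t))) (by
      calc _ = g * (t * t) * g⁻¹ := by group
        _ = 1 := by rw [ht2]; group)
    rwa [← cj_th, cj_eq_bot] at this
  exact exists_maxTwoLocal_not_isCyclic hG (isCharacteristicTwoType_of_th hc hE.even hth)⟩
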