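import Cfsg.Agent.Gate.S3307
import Cfsg.Agent.Rank2.QuatSylow
import Cfsg.Agent.Cor.OddSol

set_option autoImplicit false
open Cfsg Cfsg.Agent Cfsg.Lib Cfsg.Lib.Rank2 Cfsg.Lib.Trans Cfsg.Lib.Solv Subgroup

/-- S3307, conditional on the listed gates (universe list must stay the statement's own). -/
theorem Cfsg.Agent.Cond.S3307.{u} [Gate.S0483.{u}] : Gate.S3307.{u} := ⟨by
  intro G _ _ hns hQ hC
  obtain ⟨T⟩ : Nonempty (Sylow 2 G) := inferInstance
  have hu : UInv G := (hQ T).elim fun _ ⟨e⟩ => UInv.of_sylow T (by positivity) e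
  obtain ⟨Q, hQT, ⟨e⟩, g, hg, ho, hc⟩ := Perm.exists_q8_of_not_complement T (hu _ T.isPGroup')
    fun h => hns (Cor.isSolvable_of_hasNormalPComplement_two ⟨T, h⟩)
  obtain ⟨e'⟩ := Perm.q8_of_not_mem_centralizer T.isPGroup' (hu _ T.isPGroup') (g := g)
    (Sylow.smul_eq_iff_mem_normalizer.1 (by_contra fun h => by
      have : IsCyclic ↥(cj g (T : Subgroup G) ⊓ T) := hC _ _ h
      exact not_isMulCommutative_of_quaternion le_rfl e (isCyclic_of_le (le_inf
        ((cj_eq_of_mem_normalizer hg).ge.trans (cj_mono g hQT)) hQT)).isMulCommutative))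
    ho fun h => hc (centralizer_le hQT h)
  refine ⟨fun S => ⟨(S.equiv T).trans e'⟩, ?_⟩
  have hs := QuotientGroup.mk'_surjective (oddCore G)
  obtain ⟨n, hn⟩ := exists_perfect_derivedSeries (G ⧸ oddCore G)
  set N := derivedSeries (G ⧸ oddCore G) n
  have := (nontrivial_iff_ne_bot N).2 fun h => hns (Cor.isSolvable_of_normal_odd _
    (Nat.coprime_two_right.1 (coprime_card_pPrimeCore 2 G)) ⟨n, h⟩)
  have h1 : ¬ 16 ∣ Nat.card N * N.index := fun h => by
    have h2 := h.trans (N.card_mul_index.dvd.trans (oddCore G).index_dvd_card)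
    have h3 := T.not_dvd_index
    rw [← (T : Subgroup G).card_mul_index, q8_card e'] at h2
    omega
  rcases perfect_uInv (G := N) (pPrimeCore_eq_bot_of_isSubnormal (Normal.isSubnormal inferInstance)
    (pPrimeCore_quotient_pPrimeCore 2 G)) (hu.quot.subgroup N) with ⟨F, _, _, hF, h3, ⟨f⟩⟩ | ⟨h2, ⟨f⟩⟩
  · rw [Nat.card_congr f.toEquiv, Class.card_SL2, Nat.card_eq_fintype_card] at h1
    obtain ⟨k, hk⟩ := hF
    have h4 : 8 ∣ (Fintype.card F + 1) * (Fintype.card F - 1) := by
      rw [hk, show (2 * k + 1 + 1) * (2 * k + 1 - 1) = 4 * (k * (k + 1)) by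
        rw [Nat.add_sub_cancel]; ring]
      exact Nat.mul_dvd_mul_left 4 (Nat.even_mul_succ_self k).two_dvd
    refine ⟨N.comap (QuotientGroup.mk' _), inferInstance, inferInstance, ?_, fun x hx => ?_,
      F, inferInstance, inferInstance, by_contra fun h => h1 (Dvd.dvd.mul_right ?_ _), h3,
      ⟨((QuotientGroup.quotientMulEquivOfEq ?_).trans (QuotientGroup.quotientKerEquivOfSurjective
        ((QuotientGroup.mk' _).subgroupComap N) fun ⟨y, hy⟩ => (hs y).elim fun x hx =>
          ⟨⟨x, by rwa [mem_comap, hx]⟩, Subtype.ext hx⟩)).trans f⟩⟩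
    · rw [index_comap_of_surjective _ hs]
      refine Nat.not_even_iff_odd.1 fun h => h1 (Nat.mul_dvd_mul (a := 8) (h4.trans ?_) h.two_dvd)
      exact ⟨Fintype.card F, by ring⟩
    · rw [mem_comap, QuotientGroup.mk'_apply, (QuotientGroup.eq_one_iff x).2 hx]
      exact one_mem _
    · obtain h | h : 8 ∣ Fintype.card F + 1 ∧ 2 ∣ Fintype.card F - 1 ∨
          2 ∣ Fintype.card F + 1 ∧ 8 ∣ Fintype.card F - 1 := by omega
      all_goals exact (Nat.mul_dvd_mul h.1 h.2).trans ⟨Fintype.card F, by ring⟩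
    · ext x
      rw [MonoidHom.mem_ker, Subtype.ext_iff]
      exact (QuotientGroup.eq_one_iff (N := oddCore G) (x : G)).symm
  · refine absurd (Dvd.dvd.mul_right ?_ _) h1
    rw [← (center N).card_mul_index, h2, index, Nat.card_congr f.toEquiv, nat_card_alternatingGroup]
    simp [Nat.factorial]⟩
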