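import Cfsg.Agent.Gate.S3332
import Cfsg.Agent.Sig2.Final

set_option autoImplicit false
open Cfsg Cfsg.Agent Cfsg.Lib Cfsg.Lib.Trans Cfsg.Lib.Sig2

/-- S3332, conditional on the listed gates. -/
theorem Cfsg.Agent.Cond.S3332.{u} [Gate.S0217.{u}] [Gate.S0205.{u}] [Gate.BenderCore.{u}]
    [Gate.S1136.{u, u}] : Gate.S3332.{u} := ⟨by
  intro G _ _ _ hO S A hAS hAn hAc _ hA3 hsol t ht
  have h3 : ¬ PRankLE 2 2 (A.subgroupOf S) := by
    obtain ⟨B, hBA, hB⟩ := exists_E8_of_not_pRankLE hA3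
    intro h
    have hle : B.subgroupOf S ≤ A.subgroupOf S := fun x hx => hBA hx
    have hE : El ((B.subgroupOf S).subgroupOf (A.subgroupOf S)) :=
      fun a ha => Subtype.ext (Subtype.ext (hB.1 _ ha))
    have h1 := h _ hE.isMulCommutative fun a ha => by rw [pow_two]; exact hE a ha
    rw [Nat.card_congr (Subgroup.subgroupOfEquivOfLe hle).toEquiv,
      Nat.card_congr (Subgroup.subgroupOfEquivOfLe (hBA.trans hAS)).toEquiv] at h1
    have := hB.2
    omega
  obtain ⟨hd, B, hBS, hB⟩ := allDeep_of_normal S.isPGroup' hAn inferInstance h3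
  have hc : Constr G := fun t ht => by
    have := hsol t ht
    exact Solv.isPConstrained_of_isSolvable 2 _
  exact ppCoreOf_eq_bot_iff.1 (le_bot_iff.1 (hO ▸
    th_le_oddCore_of_allDeep hc (isSylowIn_top S) hB hBS hd ht))⟩
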