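import Cfsg.Agent.Gate.S3396
import Cfsg.Agent.CITCor.EPPOGen

set_option autoImplicit false
open Cfsg Cfsg.Agent

open Cfsg.Lib Cfsg.Lib.CITCor

/-- S3396, conditional on the listed gates. -/
theorem Cfsg.Agent.Cond.S3396.{u, v} [Gate.CITStrong.{u}] : Gate.S3396.{u, v} := ⟨by
  intro G _ _ K _ _ hK h3 hord
  have h : EPPO G := fun g hg => by
    rcases hord g hg with ⟨k, hk⟩ | ⟨hp, -⟩
    · refine (isPrimePow_nat_iff _).2 ⟨2, k, Nat.prime_two, Nat.pos_of_ne_zero ?_, hk.symm⟩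
      rintro rfl
      exact hg (orderOf_eq_one_iff.1 hk)
    · exact hp.isPrimePow
  have hO := Solv.pCore_isPGroup 2 G
  have h5 : ∀ n, Nat.card (G ⧸ pCore 2 G) = n → ¬ 5 ∣ n := fun n hn h5 => by
    have := Fact.mk Nat.prime_five
    obtain ⟨x, hx⟩ := exists_prime_orderOf_dvd_card' (G := G) 5
      ((hn ▸ h5).trans (Subgroup.card_quotient_dvd_card _))
    rcases hord x (by rintro rfl; simp at hx) with ⟨k, hk⟩ | ⟨-, h6⟩
    · have := (Nat.prime_dvd_prime_iff_eq Nat.prime_five Nat.prime_two).1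
        (Nat.prime_five.dvd_of_dvd_pow (n := k) (by rw [← hk, hx]))
      omega
    · exact h6 hx
  have h9 : ∀ x : G ⧸ pCore 2 G, orderOf x ≠ 9 := fun x hx => by
    obtain ⟨g, rfl⟩ := QuotientGroup.mk'_surjective _ x
    have h1 := orderOf_map_dvd (QuotientGroup.mk' (pCore 2 G)) g
    rw [hx] at h1
    rcases hord g (by rintro rfl; simp at hx) with ⟨k, hk⟩ | ⟨hp, -⟩
    · have := (Nat.prime_dvd_prime_iff_eq Nat.prime_three Nat.prime_two).1
        (Nat.prime_three.dvd_of_dvd_pow (hk ▸ (by norm_num : 3 ∣ 9).trans h1))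
      omega
    · rcases (Nat.dvd_prime hp).1 h1 with h2 | h2
      · omega
      · rw [← h2] at hp
        norm_num at hp
  rcases h.quotient_cases (h.not_isSolvable h3) with ⟨F, i1, i2, hF, ⟨e⟩⟩ | ⟨F, i1, i2, hF, ⟨e⟩⟩ |
    ⟨F, i1, i2, ⟨hF, ⟨e⟩⟩ | ⟨hF, ⟨e⟩⟩⟩ | h4
  · obtain ⟨c1, -, -, c4, -⟩ := card_psl2_cases (F := F)
    have he := Nat.card_congr e.toEquiv
    obtain ⟨x, hx⟩ := (exists_orderOf_psl2 F).2
    simp only [Finset.mem_insert, Finset.mem_singleton] at hF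
    rcases hF with hF | hF | hF | hF | hF
    · exact absurd (by norm_num) (h5 _ (he.trans (c1 hF)))
    · obtain ⟨σ⟩ := Class.nonempty_ringEquiv_of_card_eq (F := F) (K := K) (by rw [hF, hK])
      exact ⟨((QuotientGroup.quotientBot.symm.trans (QuotientGroup.quotientMulEquivOfEq
        (eq_bot_of_quotient_l27 h.isCIT hO hF e).symm)).trans e).trans (Class.pslEquiv (Fin 2) σ)⟩
    · exact absurd (by rw [e.symm.orderOf_eq, hx, hF]; norm_num) (h9 (e.symm x))
    · exact absurd (by norm_num) (h5 _ (he.trans (c4 hF)))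
    · exact absurd (by rw [e.symm.orderOf_eq, hx, hF]; norm_num) (h9 (e.symm x))
  · exact absurd (by norm_num) (h5 _ ((Nat.card_congr e.toEquiv).trans (Recog.card_psl3_four hF)))
  · exact absurd (by norm_num) (h5 _ ((Nat.card_congr e.toEquiv).trans (card_sz_cases.1 hF)))
  · exact absurd (by norm_num) (h5 _ ((Nat.card_congr e.toEquiv).trans (card_sz_cases.2 hF)))
  · exact absurd (by norm_num) (h5 _ h4)⟩
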