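import Cfsg.Agent.Gate.S3433
import Cfsg.Agent.CITCor.MTen

set_option autoImplicit false
open Cfsg Cfsg.Agent

open Cfsg.Lib Cfsg.Lib.CITCor

/-- S3433, conditional on the listed gates. -/
theorem Cfsg.Agent.Cond.S3433.{u} [Gate.CITStrong.{u}] : Gate.S3433.{u} := ⟨by
  intro G _ _ h
  have h1 : ∀ k, 1 ≤ k → k ≤ 5 → k ∣ Nat.card G := fun k h1 h2 => by
    obtain ⟨g, rfl⟩ : k ∈ Set.range (orderOf : G → ℕ) := h ▸ ⟨h1, h2⟩
    exact orderOf_dvd_natCard g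
  rcases cases_of_orderOf_le_five (fun g => (h.le ⟨g, rfl⟩).2) (h1 2 (by norm_num) (by norm_num))
    (h1 3 (by norm_num) (by norm_num)) (h1 5 (by norm_num) (by norm_num)) with h2 | h2
  · exact Or.inl h2
  · exact Or.inr ⟨_, inferInstance, h2⟩⟩
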