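import Cfsg.Agent.Gate.S3526
import Cfsg.Agent.Gate.FPFCop
import Cfsg.Agent.P2.Cor

set_option autoImplicit false
open Cfsg Cfsg.Agent

/-- S3526, conditional on the listed gates (universe list must stay the statement's own). -/
theorem Cfsg.Agent.Cond.S3526.{u} [Gate.FPFCop.{u}] : Gate.S3526.{u} := ⟨by
  intro G _ _ _ h
  have hco : Cfsg.Lib.P2.CO.{u} := fun _ _ _ _ _ a b c => Gate.FPFCop.out a b c
  exact Cfsg.Lib.P2.s3526 hco hco.zero h⟩
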