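import Cfsg.Agent.Gate.S3600
import Cfsg.Agent.CITCor.CritFive

set_option autoImplicit false
open Cfsg Cfsg.Agent

open Cfsg.Lib Cfsg.Lib.CITCor

/-- S3600, conditional on the listed gates. -/
theorem Cfsg.Agent.Cond.S3600.{u} [Gate.CITStrong.{u}] : Gate.S3600.{u} := ⟨by
  intro G _ _ hcrit
  refine critical_five hcrit.1 fun N _ hN h => ?_
  let φ := (QuotientGroup.mk' N).comp (Subgroup.subtype ⊤)
  have hφ : Function.Surjective φ := fun x => by
    obtain ⟨g, rfl⟩ := QuotientGroup.mk_surjective x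
    exact ⟨⟨g, Subgroup.mem_top g⟩, rfl⟩
  refine hcrit.2 ⊤ φ.ker (Or.inr fun h0 => hN (eq_bot_iff.2 fun g hg => ?_)) ?_
  · have : (⟨g, Subgroup.mem_top g⟩ : (⊤ : Subgroup G)) ∈ φ.ker := (QuotientGroup.eq_one_iff g).2 hg
    rw [h0] at this
    exact congrArg Subtype.val (Subgroup.mem_bot.1 this)
  · rw [← h, ← (QuotientGroup.quotientKerEquivOfSurjective φ hφ).surjective.range_comp]
    exact congrArg _ (funext fun x => (MulEquiv.orderOf_eq _ x).symm)⟩
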