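import Cfsg.Agent.Gate.S3617
import Cfsg.Agent.DTS.Fin

set_option autoImplicit false
open Cfsg Cfsg.Agent

/-- S3617, conditional on the listed gates (universe list must stay the statement's own). -/
theorem Cfsg.Agent.Cond.S3617.{u, v} [Gate.S3256.{v, v}] : Gate.S3617.{u, v} := ⟨by
  intro G Ω _ _ _ _ _ hprim α β hβ h2 h2t
  exact Cfsg.Lib.DTS.main Cfsg.Lib.DTS.zt_of_gate hprim α β hβ h2 h2t⟩
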