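import Cfsg.Agent.Gate.S3642
import Cfsg.Agent.Gate.S0422
import Cfsg.Agent.Perm.MatRec

set_option autoImplicit false
open Cfsg Cfsg.Agent Cfsg.Lib Cfsg.Lib.Spor Cfsg.Lib.Perm Cfsg.Lib.Perm.MatRec

/-- S3642, conditional on the listed gates (universe list must stay the statement's own). -/
theorem Cfsg.Agent.Cond.S3642.{u, v} [Gate.S0422.{v}] : Gate.S3642.{u, v} := ⟨by
  intro M _ _ hM G _ _ hcard hΔ
  have := Fintype.ofFinite G
  have := MP.isSimpleGroup_M22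
  have := MP.isSimpleGroup_M23
  rcases hM with ⟨⟨φ⟩⟩ | ⟨⟨φ⟩⟩ | ⟨⟨φ⟩⟩ | ⟨⟨φ⟩⟩ <;> rw [Nat.card_congr φ.toEquiv] at hcard
  · have := MP.isSimpleGroup_M11
    rw [MP.card_M11] at hcard
    obtain ⟨⟨χ, hχ⟩⟩ := (Nat.card_ne_zero.1
      (((S4429.result MP.card_M11).2 55).trans_ne (by norm_num))).1
    obtain ⟨d, hd, h⟩ := edge (p := 5) (q := 11) (d := 55) hΔ.2 φ ⟨χ, hχ⟩ (by norm_num)
    have := simple11 hcard hd h
    exact ⟨(O7920.isoM11 hcard).some.trans φ.symm⟩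
  · rw [MP.card_M22] at hcard
    obtain ⟨-, h1, h2⟩ := MatDeg.mem22 MP.card_M22
    obtain ⟨d, hd, h⟩ := edge (p := 5) (q := 11) hΔ.2 φ h1 (by norm_num)
    obtain ⟨f, hf, h'⟩ := edge (p := 3) (q := 11) hΔ.2 φ h2 (by norm_num)
    have := simple22 hcard hd h hf h'
    exact ⟨(O443520.isoM22 hcard).some.trans φ.symm⟩
  · rw [MP.card_M23] at hcard
    obtain ⟨d, hd, h⟩ := edge (p := 11) (q := 23) hΔ.2 φ (MatDeg.mem23 MP.card_M23).1 (by norm_num)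
    have := simple23 hcard hd h
    exact ⟨(O10200960.isoM23 hcard).some.trans φ.symm⟩
  · rw [MP.card_M24] at hcard
    obtain ⟨d, hd, h⟩ := edge (p := 11) (q := 23) hΔ.2 φ MatDeg.mem2024 (by norm_num)
    obtain ⟨f, hf, h'⟩ := edge (p := 7) (q := 23) hΔ.2 φ MatDeg.mem483 (by norm_num)
    exact ⟨(Gate.S0422.out ⟨simple24 hcard hd h hf h', hcard⟩).some.trans φ.symm⟩⟩
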