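import Cfsg.Agent.Gate.S3700
import Cfsg.Agent.Recog.CITGraph
import Cfsg.Agent.S2475

set_option autoImplicit false
open Cfsg Cfsg.Agent Cfsg.Lib Cfsg.Lib.Recog

/-- S3700, conditional on the listed gates (universe list must stay the statement's own). -/
theorem Cfsg.Agent.Cond.S3700.{u, v} [Gate.CITStrong.{v}] : Gate.S3700.{u, v} := ⟨by
  intro F _ _ m hm hF G _ _ ⟨h1, h2⟩
  have p2 := Fact.mk Nat.prime_two
  have := Chev.charP_two_of_card hF
  have h16 : 16 ≤ 2 ^ m := Nat.pow_le_pow_right (n := 2) (by norm_num) hm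
  have hc := coprime_two_pow_sub_add (n := m) (by omega)
  have o1 : Odd (2 ^ m - 1) :=
    Nat.Even.sub_odd (by omega) ((Nat.even_pow' (by omega)).mpr even_two) odd_one
  have o2 : Odd (2 ^ m + 1) := ((Nat.even_pow' (by omega)).mpr even_two).add_one
  have spec : ∀ x : Matrix.ProjectiveSpecialLinearGroup (Fin 2) F,
      orderOf x ∣ 2 ∨ orderOf x ∣ 2 ^ m - 1 ∨ orderOf x ∣ 2 ^ m + 1 := fun x => by
    have := (S2475.result (F := F) 2 (by omega)).le ⟨x, rfl⟩
    rwa [hF, Nat.coprime_two_left.mpr o1, Nat.div_one, Nat.div_one] at this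
  have n2 : ∀ r : ℕ, r.Prime → r ≠ 2 → ¬ ∃ y : G, orderOf y = 2 * r := fun r hr hr2 h => by
    obtain ⟨x, hx⟩ := (h2 2 r p2.out hr hr2.symm).mpr h
    have := hr.two_le
    rcases hx ▸ spec x with e | e | e
    · have := Nat.le_of_dvd (by norm_num) e; omega
    · exact absurd (o1.of_dvd_nat ((dvd_mul_right 2 r).trans e)) (by decide)
    · exact absurd (o2.of_dvd_nat ((dvd_mul_right 2 r).trans e)) (by decide)
  have hcit := isCIT_of_graph n2
  have key : ∀ r : ℕ, r.Prime → r ≠ 2 → (r ∣ Nat.card G ↔ r ∣ 2 ^ (2 * m) - 1) := fun r hr hr2 => by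
    rw [← h1 r hr, dvd_card_psl2_even hF hr hr2]
  have hs : ¬ Group.IsSolvable G := by
    obtain ⟨r, hr, dr⟩ := Nat.exists_prime_and_dvd (n := 2 ^ m - 1) (by omega)
    obtain ⟨s, hs, ds⟩ := Nat.exists_prime_and_dvd (n := 2 ^ m + 1) (by omega)
    have r2 : r ≠ 2 := by rintro rfl; exact absurd (o1.of_dvd_nat dr) (by decide)
    have s2 : s ≠ 2 := by rintro rfl; exact absurd (o2.of_dvd_nat ds) (by decide)
    have rs : r ≠ s := by
      rintro rfl; exact hr.one_lt.ne' (Nat.eq_one_of_dvd_coprimes hc dr ds)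
    refine not_isSolvable_of_three p2.out hr hs r2.symm s2.symm rs ((h1 2 p2.out).mp ?_)
      ((key r hr r2).mpr (two_pow_sq_sub_one m ▸ dr.mul_right _))
      ((key s hs s2).mpr (two_pow_sq_sub_one m ▸ ds.mul_left _)) (n2 r hr r2) (n2 s hs s2) fun h => ?_
    · obtain ⟨x, hx⟩ : 2 ∈ Set.range (orderOf : Matrix.ProjectiveSpecialLinearGroup (Fin 2) F → ℕ) :=
        (S2475.result (F := F) 2 (by omega)).ge (Or.inl dvd_rfl)
      exact hx.symm.dvd.trans (orderOf_dvd_natCard x)
    · obtain ⟨x, hx⟩ := (h2 r s hr hs rs).mpr h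
      rcases hx ▸ spec x with e | e | e
      · exact r2 ((Nat.prime_dvd_prime_iff_eq hr p2.out).mp ((dvd_mul_right r s).trans e))
      · exact hs.one_lt.ne' (Nat.eq_one_of_dvd_coprimes hc ((dvd_mul_left s r).trans e) ds)
      · exact hr.one_lt.ne' (Nat.eq_one_of_dvd_coprimes hc dr ((dvd_mul_right r s).trans e))
  replace key : ∀ r : ℕ, r.Prime → r ≠ 2 → (r ∣ Nat.card (G ⧸ pCore 2 G) ↔ r ∣ 2 ^ (2 * m) - 1) :=
    fun r hr hr2 => (dvd_card_quotient_iff hr hr2).trans (key r hr hr2)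
  obtain ⟨r, hr, r2, hrm, hrd⟩ := exists_ppd (n := 2 * m) (by omega) (by omega)
  have dr := (key r hr r2).mpr ((hrd _).mpr dvd_rfl)
  have small : ¬ r ∣ 20160 := fun h => by
    have h7 : ∀ s k : ℕ, s.Prime → s ≤ 7 → ¬ r ∣ s ^ k := fun s k hs h7 h => by
      have := Nat.le_of_dvd hs.pos (hr.dvd_of_dvd_pow h); omega
    rw [show 20160 = 2 ^ 6 * (3 ^ 2 * (5 ^ 1 * 7 ^ 1)) by norm_num, hr.dvd_mul, hr.dvd_mul,
      hr.dvd_mul] at h
    rcases h with h | h | h | h <;> exact h7 _ _ (by norm_num) (by norm_num) h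
  rcases CITCor.quotient_cases hcit hs with ⟨K, _, _, hK | ⟨n, hn, hK⟩ | ⟨hp, h7, k, hk⟩, ⟨e⟩⟩ |
    ⟨K, _, _, hK, ⟨e⟩⟩ | ⟨K, _, _, n, hn, hK, ⟨e⟩⟩ | ⟨S, _, hS, -, K, _, _, hK, ⟨e⟩⟩
  · rw [Nat.card_congr e.toEquiv, card_psl2_nine hK] at dr
    exact absurd (dr.trans (by norm_num)) small
  · rw [Nat.card_congr e.toEquiv] at key dr
    have h3 := Nat.le_of_dvd (by omega) ((hrd _).mp ((dvd_card_psl2_even hK hr r2).mp dr))
    obtain ⟨s, hs, s2, -, hsd⟩ := exists_ppd (n := 2 * n) (by omega) (by omega)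
    have h4 := Nat.le_of_dvd (by omega) ((hsd _).mp ((key s hs s2).mp
      ((dvd_card_psl2_even hK hs s2).mpr ((hsd _).mpr dvd_rfl))))
    obtain ⟨σ⟩ := Class.nonempty_ringEquiv_of_card_eq (F := K) (K := F)
      (by rw [hK, hF, show n = m by omega])
    exact ⟨e.trans (Class.pslEquiv (Fin 2) σ)⟩
  · exfalso
    rw [Nat.card_congr e.toEquiv] at key
    replace key := fun r hr hr2 => (dvd_card_psl2_iff hr hr2).symm.trans (key r hr hr2)
    generalize Fintype.card K = p at *
    have dp := (key p hp (by omega)).mp ((dvd_mul_right _ _).mul_right _)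
    replace dr := (key r hr r2).mpr ((hrd _).mpr dvd_rfl)
    have hk3 : 3 ≤ k := by
      by_contra h
      have : 2 ^ k ≤ 2 ^ 2 := Nat.pow_le_pow_right (by norm_num) (by omega)
      omega
    obtain ⟨k, rfl⟩ : ∃ j, k = j + 1 := ⟨k - 1, by omega⟩
    have h4 : 4 ≤ 2 ^ k := Nat.pow_le_pow_right (n := 2) (i := 2) (by norm_num) (by omega)
    rcases hk with hk | hk
    · have e1 : p * (p - 1) * (p + 1) = 2 ^ (k + 2) * (p * (2 ^ k + 1)) := by
        rw [hk, Nat.add_sub_cancel]; ring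
      obtain ⟨s, hs, s2, -, hsd⟩ := exists_ppd (n := 2 * (k + 1)) (by omega) (by
        intro h; rw [show k = 2 by omega] at hk; rw [hk] at hp; norm_num at hp)
      have h5 : s = p := by
        have h6 := (hsd _).mpr dvd_rfl
        rw [← two_pow_sq_sub_one, hs.dvd_mul, hsd, ← hk] at h6
        exact (Nat.prime_dvd_prime_iff_eq hs hp).mp
          (h6.resolve_left fun h => by have := Nat.le_of_dvd (by omega) h; omega)
      subst h5
      have h5 := Nat.le_of_dvd (by omega) ((hsd _).mp dp)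
      rw [e1, dvd_two_pow_mul_iff hr r2, hr.dvd_mul, Nat.prime_dvd_prime_iff_eq hr hp] at dr
      have h6 : k + 1 = m := by
        rcases dr with rfl | dr
        · have := Nat.le_of_dvd (by omega) ((hrd _).mp ((hsd _).mpr dvd_rfl))
          omega
        · have := Nat.le_of_dvd (by omega) ((hrd (2 * k)).mp (two_pow_sq_sub_one k ▸ dr.mul_left _))
          omega
      subst h6
      have h8 : ∀ t : ℕ, t.Prime → t ∣ 2 ^ (k + 1) - 1 → t = 3 := fun t ht dt => by
        have t2 : t ≠ 2 := by rintro rfl; exact absurd (o1.of_dvd_nat dt) (by decide)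
        have h9 := (key t ht t2).mpr (two_pow_sq_sub_one (k + 1) ▸ dt.mul_right _)
        rw [e1, dvd_two_pow_mul_iff ht t2, ht.dvd_mul, Nat.prime_dvd_prime_iff_eq ht hp] at h9
        rcases h9 with rfl | h9
        · have := Nat.le_of_dvd (by omega) dt; omega
        · refine (Nat.prime_dvd_prime_iff_eq ht Nat.prime_three).mp ?_
          have := Nat.dvd_sub (h9.mul_left 2) dt
          rwa [show 2 * (2 ^ k + 1) - (2 ^ (k + 1) - 1) = 3 by rw [pow_succ]; omega] at this
      by_cases h9 : k + 1 = 6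
      · exact absurd (h8 7 (by norm_num) (by rw [h9]; norm_num)) (by norm_num)
      obtain ⟨t, ht, -, htk, htd⟩ := exists_ppd (n := k + 1) (by omega) h9
      have := h8 t ht ((htd _).mpr dvd_rfl)
      omega
    · have e0 : p = 2 ^ (k + 1) - 1 := by omega
      have e1 : p * (p - 1) * (p + 1) = 2 ^ (k + 2) * (p * (2 ^ k - 1)) := by
        rw [hk, show p - 1 = 2 * (2 ^ k - 1) by rw [pow_succ] at hk; omega]; ring
      obtain ⟨s, hs, s2, -, hsd⟩ := exists_ppd (n := k + 1) (by omega) (by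
        intro h; rw [h] at e0; rw [e0] at hp; norm_num at hp)
      obtain rfl : s = p := (Nat.prime_dvd_prime_iff_eq hs hp).mp (e0 ▸ (hsd _).mpr dvd_rfl)
      have h5 := Nat.le_of_dvd (by omega) ((hsd _).mp dp)
      rw [e1, dvd_two_pow_mul_iff hr r2, hr.dvd_mul, Nat.prime_dvd_prime_iff_eq hr hp] at dr
      rcases dr with rfl | dr
      · have h6 := Nat.le_of_dvd (by omega) ((hrd _).mp ((hsd _).mpr dvd_rfl))
        rw [show k + 1 = 2 * m by omega, ← two_pow_sq_sub_one] at e0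
        rcases (Nat.dvd_prime hp).mp (e0 ▸ dvd_mul_right (2 ^ m - 1) (2 ^ m + 1)) with h | h
        · omega
        · rw [← h] at e0
          have := Nat.eq_of_mul_eq_mul_left (by omega : 0 < 2 ^ m - 1) ((mul_one _).trans e0)
          omega
      · have := Nat.le_of_dvd (by omega) ((hrd _).mp dr)
        omega
  · rw [Nat.card_congr e.toEquiv, card_psl3_four hK] at dr
    exact absurd dr small
  · refine absurd ((key 3 Nat.prime_three (by norm_num)).mpr ?_)
      ((Chev.lieSzModel hn hK).ofEquiv e).not_three_dvd_card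
    simpa [pow_mul] using Nat.sub_dvd_pow_sub_pow 4 1 m
  · rw [← S.card_mul_index, hS, Nat.card_congr e.toEquiv, card_psl2_nine hK] at dr
    exact absurd (dr.trans (by norm_num)) small⟩
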