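import Cfsg.Agent.Gate.S3718
import Cfsg.Agent.Gate.WB
import Cfsg.Agent.Recog.CycNormAut
import Cfsg.Agent.Recog.CITGraph
import Cfsg.Agent.CITCor.EPPO

set_option autoImplicit false

namespace Cfsg.Lib.Recog.OneComp

open Subgroup Cfsg.Agent Cfsg.Lib.CITCor Cfsg.Lib.Chev
open scoped MatrixGroups

/-- At most one composite element order. -/
def OC (G : Type*) [Group G] : Prop :=
  ∀ x y : G, 1 < orderOf x → ¬ (orderOf x).Prime → 1 < orderOf y → ¬ (orderOf y).Prime →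
    orderOf x = orderOf y

theorem OC.of_injective {G H : Type*} [Group G] [Group H] (h : OC G) (f : H →* G)
    (hf : Function.Injective f) : OC H := fun x y => by
  simpa only [orderOf_injective f hf] using h (f x) (f y)

/-- At most one composite divisor of `a` or `b`. -/
def AB (a b : ℕ) : Prop :=
  ∀ m n : ℕ, (m ∣ a ∨ m ∣ b) → (n ∣ a ∨ n ∣ b) → 1 < m → ¬ m.Prime → 1 < n → ¬ n.Prime → m = n

theorem AB.symm {a b : ℕ} (h : AB a b) : AB b a := fun m n hm hn => h m n hm.symm hn.symm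

theorem not_prime_of_dvd {r n : ℕ} (hr : 1 < r) (h : r ∣ n) (hn : n ≠ r) : ¬ n.Prime :=
  fun hp => hn ((Nat.prime_dvd_prime_iff_eq ((Nat.dvd_prime hp).mp h |>.resolve_left hr.ne' ▸ hp)
    hp).mp h).symm

theorem AB.prime {a b r s : ℕ} (h : AB a b) (hr : 1 < r) (hs : 1 < s) (e : a = r * s) :
    s.Prime ∧ ∀ n, n ∣ b → 1 < n → n ≠ a → n.Prime := by
  have h1 : ¬ a.Prime := e ▸ Nat.not_prime_mul hr.ne' hs.ne'
  have h2 : s < a := by nlinarith
  refine ⟨?_, fun n hn h3 h4 => ?_⟩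
  · by_contra h3
    exact h2.ne (h s a (Or.inl (e ▸ dvd_mul_left s r)) (Or.inl dvd_rfl) hs h3 (by omega) h1)
  · by_contra h5
    exact h4 (h n a (Or.inr hn) (Or.inl dvd_rfl) h3 h5 (by omega) h1)

theorem AB.even {n : ℕ} (hn : 2 ≤ n) (h : AB (2 ^ n - 1) (2 ^ n + 1)) :
    n = 2 ∨ n = 4 ∨ ∃ r : ℕ, (2 ^ n - 1).Prime ∧ r.Prime ∧ 2 ^ n + 1 = 3 * r := by
  rcases two_pow_mod_three n with ⟨h1, -⟩ | ⟨h1, h2⟩
  · obtain ⟨m, rfl⟩ : ∃ m, n = 2 * m := ⟨n / 2, by omega⟩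
    by_contra h3
    have h4 : 2 ^ 3 ≤ 2 ^ m := Nat.pow_le_pow_right two_pos (by omega)
    have e := (two_pow_sq_sub_one m).symm
    have p1 := (h.prime (by omega) (by omega) e).1
    have p2 := (h.prime (by omega) (by omega) (e.trans (mul_comm _ _))).1
    rcases two_pow_mod_three m with ⟨-, h5⟩ | ⟨-, h5⟩
    · exact not_prime_of_dvd (r := 3) (by norm_num) (by omega) (by omega) p2
    · exact not_prime_of_dvd (r := 3) (by norm_num) (by omega) (by omega) p1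
  · have h4 : 2 ^ 3 ≤ 2 ^ n := Nat.pow_le_pow_right two_pos (by omega)
    obtain ⟨r, hr⟩ : 3 ∣ 2 ^ n + 1 := by omega
    have := h.symm.prime (by norm_num) (by omega) hr
    exact Or.inr (Or.inr ⟨r, this.2 _ dvd_rfl (by omega) (by omega), this.1, hr⟩)

theorem AB.odd {a : ℕ} (ha : 2 ≤ a) (h : AB a (a + 1)) :
    a = 2 ∨ a = 3 ∨ a = 4 ∨ a = 5 ∨ a = 6 ∨
      (3 ∣ 2 * a + 1 ∧ ((a + 1).Prime ∧ (∃ r, r.Prime ∧ a = 2 * r) ∨
        a.Prime ∧ ∃ r, r.Prime ∧ a + 1 = 2 * r)) := by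
  by_contra h1
  push Not at h1
  obtain ⟨h2, h3, h4, h5, h6, h7⟩ := h1
  rcases Nat.even_or_odd' a with ⟨r, hr | hr⟩
  · have p := h.prime (by norm_num) (by omega) hr
    have p2 := p.2 _ dvd_rfl (by omega) (by omega)
    by_cases h8 : 3 ∣ 2 * a + 1
    · exact ((h7 h8).1 p2 r p.1) hr
    · by_cases h9 : 3 ∣ r
      · exact not_prime_of_dvd (r := 3) (by norm_num) h9 (by omega) p.1
      · refine not_prime_of_dvd (r := 3) (by norm_num) ?_ (by omega) p2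
        rcases (by omega : r % 3 = 0 ∨ r % 3 = 1 ∨ r % 3 = 2) with e | e | e <;> omega
  · have hr' : a + 1 = 2 * (r + 1) := by omega
    have p := h.symm.prime (by norm_num) (by omega) hr'
    have p2 := p.2 _ dvd_rfl (by omega) (by omega)
    by_cases h8 : 3 ∣ 2 * a + 1
    · exact ((h7 h8).2 p2 _ p.1) hr'
    · by_cases h9 : 3 ∣ r + 1
      · exact not_prime_of_dvd (r := 3) (by norm_num) h9 (by omega) p.1
      · refine not_prime_of_dvd (r := 3) (by norm_num) ?_ (by omega) p2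
        rcases (by omega : r % 3 = 0 ∨ r % 3 = 1 ∨ r % 3 = 2) with e | e | e <;> omega

theorem exists_orderOf_dvd {G : Type*} [Group G] [Finite G] (x : G) {m : ℕ} (h : m ∣ orderOf x) :
    ∃ y : G, orderOf y = m := ⟨_, orderOf_pow_orderOf_div (orderOf_pos x).ne' h⟩

theorem OC.ab {F : Type*} [Field F] [Fintype F] (h : OC PSL(2, F)) :
    AB ((Fintype.card F - 1) / Nat.gcd 2 (Fintype.card F - 1))
      ((Fintype.card F + 1) / Nat.gcd 2 (Fintype.card F - 1)) := by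
  obtain ⟨⟨x, hx⟩, y, hy⟩ := exists_orderOf_psl2 F
  rw [← hx, ← hy]
  intro m n hm hn
  obtain ⟨u, rfl⟩ := hm.elim (exists_orderOf_dvd x) (exists_orderOf_dvd y)
  obtain ⟨v, rfl⟩ := hn.elim (exists_orderOf_dvd x) (exists_orderOf_dvd y)
  exact h u v

theorem OC.psl2 {F : Type*} [Field F] [Fintype F] (h : OC PSL(2, F)) (h4 : 3 < Fintype.card F) :
    Fintype.card F = 4 ∨ (Fintype.card F = 5 ∨ Fintype.card F = 7 ∨ Fintype.card F = 8 ∨
      Fintype.card F = 9 ∨ Fintype.card F = 11 ∨ Fintype.card F = 13 ∨ Fintype.card F = 16) ∨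
    (∃ n r s : ℕ, r.Prime ∧ s.Prime ∧ 3 ^ n - 1 = 2 * r ∧ 3 ^ n + 1 = 4 * s ∧
      Fintype.card F = 3 ^ n) ∨
    ∃ n r : ℕ, (2 ^ n - 1).Prime ∧ r.Prime ∧ 2 ^ n + 1 = 3 * r ∧ Fintype.card F = 2 ^ n := by
  have h1 := h.ab
  obtain ⟨n, hp, hn⟩ := FiniteField.card F (ringChar F)
  rcases Nat.even_or_odd' (Fintype.card F) with ⟨a, ha | ha⟩
  · have h2 : ringChar F = 2 := ((Nat.prime_dvd_prime_iff_eq Nat.prime_two hp).mp
      (Nat.prime_two.dvd_of_dvd_pow (hn ▸ ha ▸ dvd_mul_right 2 a))).symm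
    rw [h2] at hn
    rw [(Nat.coprime_two_left.mpr (Nat.odd_iff.mpr (by omega)) : Nat.gcd 2 (Fintype.card F - 1) = 1),
      Nat.div_one, Nat.div_one, hn] at h1
    have h3 : 2 ≤ (n : ℕ) := by
      by_contra h3
      have : 2 ^ (n : ℕ) ≤ 2 ^ 1 := Nat.pow_le_pow_right two_pos (by omega)
      omega
    rcases h1.even h3 with e | e | ⟨r, e⟩
    · left; rw [hn, e]; rfl
    · rw [e] at hn; omega
    · exact Or.inr (Or.inr (Or.inr ⟨n, r, e.1, e.2.1, e.2.2, hn⟩))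
  · rw [Nat.gcd_eq_left (by omega), show (Fintype.card F - 1) / 2 = a by omega,
      show (Fintype.card F + 1) / 2 = a + 1 by omega] at h1
    rcases h1.odd (by omega) with e | e | e | e | e | ⟨e, e'⟩
    iterate 5 omega
    have h2 : ringChar F = 3 := ((Nat.prime_dvd_prime_iff_eq Nat.prime_three hp).mp
      (Nat.prime_three.dvd_of_dvd_pow (hn ▸ ha ▸ e))).symm
    rw [h2] at hn
    have h3 := three_pow_mod_eight n
    rcases e' with ⟨-, r, hr, e1⟩ | ⟨p1, r, hr, e1⟩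
    · have := hr.eq_two_or_odd
      omega
    · have h5 := p1.eq_two_or_odd
      by_cases h6 : r = 2
      · omega
      have h7 := hr.eq_two_or_odd
      exact Or.inr (Or.inr (Or.inl ⟨n, a, r, p1, hr, by omega, by omega, hn⟩))

theorem OC.sz {G : Type*} [Group G] (h : OC G) {F : Type*} [Field F] [Fintype F] {τ : Tw F}
    (M : SzModel τ G) {m : ℕ} (hm : 1 ≤ m) (hF : Fintype.card F = 2 ^ (2 * m + 1)) : m = 1 := by
  have := M.finite
  have := Fact.mk Nat.prime_two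
  have h4 : orderOf (M.T 1 0) = 4 := orderOf_eq_prime_pow (n := 1) (p := 2)
    (by simp [M.T_sq_eq_one]) (M.T_pow_four 1 0)
  obtain ⟨g₁, g₂, h₁, h₂, c₁, c₂, -, -⟩ := M.exists_tori hF
  have := h₁.isCyclic_centralizer
  have := h₂.isCyclic_centralizer
  have key : ∀ C : Subgroup G, IsCyclic C → 5 ∣ Nat.card C → Nat.card C = 5 := fun C _ h5 => by
    obtain ⟨x, hx⟩ := IsCyclic.exists_ofOrder_eq_natCard (α := C)
    rw [← orderOf_coe] at hx
    have h6 := Nat.le_of_dvd Nat.card_pos h5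
    by_contra h7
    have := h x (M.T 1 0) (by omega) (hx ▸ not_prime_of_dvd (by norm_num) h5 h7) (by omega)
      (by rw [h4]; norm_num)
    omega
  rw [hF] at c₁ c₂
  by_contra h5
  obtain ⟨k, rfl⟩ : ∃ k, m = k + 2 := ⟨m - 2, by omega⟩
  have e1 : 2 ^ (2 * (k + 2) + 1) = 32 * (2 ^ k * 2 ^ k) := by ring
  have e2 : 2 ^ (k + 2 + 1) = 8 * 2 ^ k := by ring
  have e3 : 2 ^ k ≤ 2 ^ k * 2 ^ k := Nat.le_mul_self _
  have e4 : 0 < 2 ^ k := by positivity
  rcases five_dvd_or (k + 2) with h6 | h6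
  · have := key _ inferInstance (c₁ ▸ h6)
    omega
  · have := key _ inferInstance (c₂ ▸ h6)
    omega

theorem OC.not_comm {G : Type*} [Group G] (h : OC G) {t : G} (ht : orderOf t = 2) {F : Type*}
    [Field F] [Fintype F] (hF : Odd (Fintype.card F)) (h3 : 3 < Fintype.card F)
    (f : PSL(2, F) →* G) (hf : Function.Injective f) (hc : ∀ x, Commute t (f x)) : False := by
  have key : ∀ x : PSL(2, F), Odd (orderOf x) → orderOf (t * f x) = 2 * orderOf x := fun x hx => by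
    rw [(hc x).orderOf_mul_eq_mul_orderOf_of_coprime (by
      rw [ht, orderOf_injective f hf]; exact Nat.coprime_two_left.mpr hx), ht,
      orderOf_injective f hf]
  have key2 : ∀ x y : PSL(2, F), Odd (orderOf x) → Odd (orderOf y) → 1 < orderOf x →
      1 < orderOf y → orderOf x = orderOf y := fun x y hx hy h1 h2 => by
    have := h (t * f x) (t * f y)
    rw [key x hx, key y hy] at this
    have := this (by omega) (Nat.not_prime_mul (by norm_num) h1.ne') (by omega)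
      (Nat.not_prime_mul (by norm_num) h2.ne')
    omega
  obtain ⟨n, hp, hn⟩ := FiniteField.card F (ringChar F)
  have := Fact.mk hp
  have hd : ringChar F ∣ Fintype.card F := hn ▸ dvd_pow_self _ n.ne_zero
  have h1 : (Semi.uu 1 : PSL(2, F)) ≠ 1 :=
    fun e => one_ne_zero (Semi.uu_inj (e.trans Semi.uu_zero.symm))
  have h2 : orderOf (Semi.uu 1 : PSL(2, F)) = ringChar F :=
    orderOf_eq_prime (by rw [Semi.uu_pow]; simp [Semi.uu_zero]) h1
  have h5 := key2 (Semi.uu 1)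
  rw [h2] at h5
  obtain ⟨⟨x, hx⟩, y, hy⟩ := exists_orderOf_psl2 F
  obtain ⟨a, ha⟩ := id hF
  rw [Nat.gcd_eq_left (by omega)] at hx hy
  have h6 : ¬ ringChar F ∣ 1 := hp.one_lt.ne' ∘ Nat.dvd_one.mp
  rcases Nat.even_or_odd' a with ⟨r, hr | hr⟩
  · have h7 := h5 y (hF.of_dvd_nat hd) (Nat.odd_iff.mpr (by omega)) hp.one_lt (by omega)
    exact h6 ((Nat.dvd_add_right hd).mp ⟨2, by omega⟩)
  · have h7 := h5 x (hF.of_dvd_nat hd) (Nat.odd_iff.mpr (by omega)) hp.one_lt (by omega)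
    exact h6 ((Nat.dvd_add_right (⟨2, by omega⟩ : ringChar F ∣ Fintype.card F - 1)).mp
      (by rwa [Nat.sub_add_cancel (by omega)]))

theorem OC.cases.{u} [Gate.CITStrong.{u}] [Gate.WB.{u}] {G : Type u} [Group G] [Finite G]
    [IsSimpleGroup G] (h : OC G) (hG : ¬ IsMulCommutative G) :
    (∃ (F : Type) (_ : Field F) (_ : Fintype F), 3 < Fintype.card F ∧ Nonempty (G ≃* PSL(2, F))) ∨
    (∃ (F : Type) (_ : Field F) (_ : Fintype F), Fintype.card F = 4 ∧ Nonempty (G ≃* PSL(3, F))) ∨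
    Cfsg.Lie.IsoSuzuki G := by
  have h4 : ∀ n, 2 ≤ n → 3 < 2 ^ n := fun n hn =>
    lt_of_lt_of_le (by norm_num) (Nat.pow_le_pow_right two_pos hn)
  by_cases h1 : ∀ r : ℕ, r.Prime → r ≠ 2 → ¬ ∃ y : G, orderOf y = 2 * r
  · refine (Gate.CITStrong.out (exists_ne_comm_of_not hG) (isCIT_of_graph h1)).imp_left ?_
    rintro ⟨F, i1, i2, hF, e⟩
    refine ⟨F, i1, i2, ?_, e⟩
    rcases hF with hF | ⟨n, hn, hF⟩ | ⟨-, h7, -⟩
    · omega
    · exact hF ▸ h4 n hn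
    · omega
  push Not at h1
  obtain ⟨r, hr, hr2, y, hy⟩ := h1
  have := Fact.mk Nat.prime_two
  have h2 : ∀ S : Sylow 2 G, ∀ x : S, x * x = 1 := fun S x => by
    obtain ⟨k, hk⟩ := IsPGroup.iff_orderOf.mp S.isPGroup' x
    by_cases h3 : k ≤ 1
    · rw [← sq, ← orderOf_dvd_iff_pow_eq_one, hk]
      exact pow_dvd_pow 2 h3
    have h5 := h x y
    rw [orderOf_coe, hk, hy] at h5
    have h6 := h4 k (by omega)
    have h7 := h5 (by omega) (not_prime_of_dvd one_lt_two (dvd_pow_self _ (by omega)) (by omega))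
      (by have := hr.two_le; omega) (Nat.not_prime_mul (by norm_num) hr.ne_one)
    exact absurd ((Nat.prime_dvd_prime_iff_eq hr Nat.prime_two).mp
      (hr.dvd_of_dvd_pow (h7 ▸ dvd_mul_left r 2))) hr2
  rcases Gate.WB.out hG (fun S => ⟨⟨fun a b => by
      rw [← inv_eq_of_mul_eq_one_right (h2 S (a * b)), mul_inv_rev,
        inv_eq_of_mul_eq_one_right (h2 S a), inv_eq_of_mul_eq_one_right (h2 S b)]⟩⟩) with
    ⟨n, hn, F, i1, i2, hF, e⟩ | ⟨F, i1, i2, -, hF, e⟩ | ⟨-, -, h3⟩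
  · exact Or.inl ⟨F, i1, i2, hF ▸ h4 n hn, e⟩
  · exact Or.inl ⟨F, i1, i2, hF, e⟩
  obtain ⟨t, ht⟩ := exists_orderOf_dvd y (hy ▸ dvd_mul_right 2 r)
  obtain ⟨-, E, hE, F, _, _, h5, h6, N, -, ⟨e⟩, -⟩ := h3 t ht
  exact (h.not_comm ht h5 h6 ((E.subtype.comp N.subtype).comp e.symm.toMonoidHom)
    ((E.subtype_injective.comp N.subtype_injective).comp e.symm.injective)
    fun x => hE.2.2.1 t (mem_zpowers t) _ (e.symm x).1.2).elim

end Cfsg.Lib.Recog.OneComp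

open Cfsg Cfsg.Agent Cfsg.Lib.Recog Cfsg.Lib.Recog.OneComp

/-- S3718, conditional on the listed gates (universe list must stay the statement's own). -/
theorem Cfsg.Agent.Cond.S3718.{u} [Gate.CITStrong.{u}] [Gate.WB.{u}] : Gate.S3718.{u} := ⟨by
  intro G _ _ _ h1
  have h : OC G := fun x y a b c d => h1 ⟨⟨x, rfl⟩, a, b⟩ ⟨⟨y, rfl⟩, c, d⟩
  by_cases hG : IsMulCommutative G
  · let _ : CommGroup G := { (inferInstance : Group G) with mul_comm := hG.1.1 }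
    exact Or.inl IsSimpleGroup.prime_card
  right
  rcases h.cases hG with ⟨F, i1, i2, hF, ⟨e⟩⟩ | h3 | ⟨F, i1, i2, m, hm, hF, ⟨e⟩⟩
  · rcases (h.of_injective e.symm.toMonoidHom e.symm.injective).psl2 hF with
      h4 | h4 | ⟨n, r, s, h4, h5, h6, h7, h8⟩ | ⟨n, r, h4, h5, h6, h7⟩
    · have := Fact.mk Nat.prime_five
      obtain ⟨e1⟩ := psl2_four_five (F := F) (by rwa [Nat.card_eq_fintype_card])
      exact Or.inl ⟨ZMod 5, inferInstance, inferInstance, Or.inl (by simp), ⟨e.trans e1⟩⟩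
    · exact Or.inl ⟨F, i1, i2, h4, ⟨e⟩⟩
    · exact Or.inr (Or.inr (Or.inr (Or.inl ⟨F, i1, i2, n, r, s, h4, h5, h6, h7, h8, ⟨e⟩⟩)))
    · exact Or.inr (Or.inr (Or.inr (Or.inr ⟨F, i1, i2, n, r, h4, h5, h6, h7, ⟨e⟩⟩)))
  · exact Or.inr (Or.inl h3)
  · obtain rfl := h.sz ((Lib.Chev.lieSzModel hm hF).ofEquiv e) hm hF
    exact Or.inr (Or.inr (Or.inl ⟨F, i1, i2, hF, ⟨e⟩⟩))⟩
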