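import Cfsg.Agent.Gate.S3730
import Cfsg.Agent.Recog.CycNormAut

set_option autoImplicit false
open Cfsg Cfsg.Agent Cfsg.Lib.Recog

/-- S3730, conditional on the listed gates (universe list must stay the statement's own). -/
theorem Cfsg.Agent.Cond.S3730.{u} [Gate.CITStrong.{u}] [Gate.BenderCore.{u}] [Gate.S1136.{u, u}]
    [Gate.S0508.{u}] : Gate.S3730.{u} := ⟨by
  intro G _ _ _ hss hii
  refine CN.final (fun x y g hx hy hy1 hg => ?_) hss
  have h := hii (Subgroup.zpowers x) inferInstance (by rwa [Nat.card_zpowers]) (Subgroup.zpowers y)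
    (Subgroup.zpowers_le.mpr hy) (by rwa [Ne, Subgroup.zpowers_eq_bot])
  exact mem_Nz.mp (h.ge (mem_Nz.mpr hg))⟩
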