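import Cfsg.Agent.Gate.S4012
import Cfsg.Agent.FPFC.Basic

set_option autoImplicit false
open Cfsg Cfsg.Agent Cfsg.Lib Cfsg.Lib.FPFC Subgroup

/-- S4012, conditional on the listed gates (universe list must stay the statement's own). -/
theorem Cfsg.Agent.Cond.S4012.{u} [Gate.FPFCop.{u}] : Gate.S4012.{u} := ⟨by
  intro G _ _ N M _ _ hNM g hgM hgN hcl
  have hc : ∀ y ∈ M, y ∉ N → IsConj g y := fun y h1 h2 => (Set.ext_iff.mp hcl y).mpr ⟨h1, h2⟩
  have ho : ∀ y ∈ M, y ∉ N → orderOf y = orderOf g := fun y h1 h2 => by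
    obtain ⟨c, rfl⟩ := isConj_iff.mp (hc y h1 h2)
    exact (MulAut.conj c).orderOf_eq g
  obtain ⟨p, hp, x, hxg, hx, k, hk⟩ := exists_primary hgN
  have := Fact.mk hp
  rw [ho x (zpowers_le.mpr hgM hxg) hx] at hk
  have h1 : ∀ n ∈ N, IsConj g (g * n) := fun n hn =>
    hc _ (mul_mem hgM (hNM.le hn)) fun c => hgN ((N.mul_mem_cancel_right hn).mp c)
  have h2 : Local.resOf p M ≤ N := Local.resOf_le_of_pow_mem fun y hy => by
    by_cases c : y ∈ N
    · exact ⟨0, by simpa using c⟩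
    · exact ⟨k, by rw [← hk, ← ho y hy c, pow_orderOf_eq_one]; exact one_mem _⟩
  have e := subgroupOfEquivOfLe (Local.resOf_le (p := p) M)
  rw [Local.resOf_subgroupOf] at e
  have h3 := coset_solv ⟨k, hk⟩ h1
  have := (Trans.isPGroup_quotient_pResidual (G := M) (p := p)).isNilpotent
  refine ⟨p, hp, ⟨k, hk⟩, Cor.isSolvable_of_normal_quotient (pResidual p M)
    (Group.isSolvable_of_isSolvable_injective (f := (inclusion h2).comp e.toMonoidHom)
      ((inclusion_injective h2).comp e.injective)) inferInstance, pResidual p M, inferInstance, ?_,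
    Trans.exists_index_pResidual_eq⟩
  rw [Nat.card_congr e.toEquiv, ← Local.resOf_eq_of_le h2 hNM.le]
  exact coset_coprime ⟨k, hk⟩ h1⟩
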