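import Cfsg.Agent.Gate.S4068
import Cfsg.Agent.Gate.S1230
import Cfsg.Agent.Cor.OddSol
import Cfsg.Agent.S2475
import Cfsg.Agent.Class.A5Recog
import Cfsg.Agent.Class.PGL2Sub
import Cfsg.Agent.Char.Burnside

set_option autoImplicit false
open Cfsg Cfsg.Agent

namespace Cfsg.Agent.Cond.S4068h

variable {G : Type*} [Group G] [Finite G]

theorem ncard_range_orderOf_le :
    (Set.range (orderOf : G → ℕ)).ncard ≤ Nat.card (MulAction.orbitRel.Quotient (MulAut G) G) := by
  let f : MulAction.orbitRel.Quotient (MulAut G) G → ℕ := Quotient.lift orderOf (by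
    intro a b hab
    obtain ⟨φ, rfl⟩ := MulAction.orbitRel_apply.1 hab
    exact φ.orderOf_eq b)
  have h : Set.range (orderOf : G → ℕ) = f '' Set.univ := by
    ext n
    constructor
    · rintro ⟨x, rfl⟩
      exact ⟨Quotient.mk _ x, trivial, rfl⟩
    · rintro ⟨q, -, rfl⟩
      induction q using Quotient.inductionOn with
      | h x => exact ⟨x, rfl⟩
  rw [h, ← Set.ncard_univ]
  exact Set.ncard_image_le

theorem three_le_card_primeFactors (hns : ¬ Group.IsSolvable G) :
    3 ≤ (Nat.card G).primeFactors.card := by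
  by_contra h
  apply hns
  have hn : Nat.card G ≠ 0 := Nat.card_pos.ne'
  have key : ∀ p q : ℕ, p.Prime → q.Prime → (Nat.card G).primeFactors ⊆ {p, q} →
      Group.IsSolvable G := by
    intro p q hp hq hs
    refine Lib.Char.isSolvable_of_card_dvd (a := Nat.card G) (b := Nat.card G) hp hq G ?_
    rw [← Nat.factorization_le_iff_dvd hn (mul_ne_zero (pow_ne_zero _ hp.ne_zero)
      (pow_ne_zero _ hq.ne_zero))]
    intro r
    by_cases hr : r ∈ (Nat.card G).primeFactors
    · have h1 := (Nat.factorization_lt r hn).le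
      rw [Nat.factorization_mul (pow_ne_zero _ hp.ne_zero) (pow_ne_zero _ hq.ne_zero),
        Nat.Prime.factorization_pow hp, Nat.Prime.factorization_pow hq]
      have := hs hr
      simp only [Finset.mem_insert, Finset.mem_singleton] at this
      rcases this with rfl | rfl
      · simp only [Finsupp.coe_add, Pi.add_apply, Finsupp.single_eq_same]
        omega
      · simp only [Finsupp.coe_add, Pi.add_apply, Finsupp.single_eq_same]
        omega
    · rw [← Nat.support_factorization, Finsupp.notMem_support_iff] at hr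
      rw [hr]
      exact Nat.zero_le _
  have hp : ∀ r ∈ (Nat.card G).primeFactors, r.Prime := fun r hr => Nat.prime_of_mem_primeFactors hr
  have h2 : (Nat.card G).primeFactors.card = 0 ∨ (Nat.card G).primeFactors.card = 1 ∨
      (Nat.card G).primeFactors.card = 2 := by omega
  rcases h2 with h2 | h2 | h2
  · rw [Finset.card_eq_zero] at h2
    exact key 2 2 Nat.prime_two Nat.prime_two (by rw [h2]; exact Finset.empty_subset _)
  · obtain ⟨p, h3⟩ := Finset.card_eq_one.1 h2
    exact key p p (hp p (by simp [h3])) (hp p (by simp [h3])) (by simp [h3])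
  · obtain ⟨p, q, -, h3⟩ := Finset.card_eq_two.1 h2
    exact key p q (hp p (by simp [h3])) (hp q (by simp [h3])) (by simp [h3])

theorem prime_orderOf (hns : ¬ Group.IsSolvable G)
    (h4 : Nat.card (MulAction.orbitRel.Quotient (MulAut G) G) = 4) (x : G) (hx : x ≠ 1) :
    (orderOf x).Prime := by
  classical
  have h1 := ncard_range_orderOf_le (G := G)
  have h3 := three_le_card_primeFactors hns
  have hsub : ((insert 1 (Nat.card G).primeFactors : Finset ℕ) : Set ℕ) ⊆
      Set.range (orderOf : G → ℕ) := by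
    intro n hn
    simp only [Finset.coe_insert, Set.mem_insert_iff, Finset.mem_coe] at hn
    rcases hn with rfl | hn
    · exact ⟨1, orderOf_one⟩
    · have := Fact.mk (Nat.prime_of_mem_primeFactors hn)
      exact exists_prime_orderOf_dvd_card' n (Nat.dvd_of_mem_primeFactors hn)
  have hc : (insert 1 (Nat.card G).primeFactors : Finset ℕ).card =
      (Nat.card G).primeFactors.card + 1 :=
    Finset.card_insert_of_notMem fun h => Nat.not_prime_one (Nat.prime_of_mem_primeFactors h)
  have he := Set.eq_of_subset_of_ncard_le hsub (by rw [Set.ncard_coe_finset]; omega)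
    (Set.finite_range _)
  have : orderOf x ∈ ((insert 1 (Nat.card G).primeFactors : Finset ℕ) : Set ℕ) := by
    rw [he]
    exact ⟨x, rfl⟩
  simp only [Finset.coe_insert, Set.mem_insert_iff, Finset.mem_coe] at this
  rcases this with h | h
  · exact absurd (orderOf_eq_one_iff.1 h) hx
  · exact Nat.prime_of_mem_primeFactors h

omit [Finite G] in
theorem sq_eq_one_of_commute (h : ∀ x : G, x ≠ 1 → (orderOf x).Prime) {t c : G}
    (ht : orderOf t = 2) (hc : c * t = t * c) : c ^ 2 = 1 := by
  by_contra h2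
  have hc1 : c ≠ 1 := fun e => h2 (by simp [e])
  have hp := h c hc1
  have hne : orderOf c ≠ 2 := fun e => h2 (by rw [← e]; exact pow_orderOf_eq_one c)
  have hco : (orderOf c).Coprime (orderOf t) := by
    rw [ht]
    exact (Nat.coprime_primes hp Nat.prime_two).2 hne
  have ho := (show Commute c t from hc).orderOf_mul_eq_mul_orderOf_of_coprime hco
  have hct : c * t ≠ 1 := fun e => by
    rw [e, orderOf_one, ht] at ho
    omega
  have := h _ hct
  rw [ho, ht, Nat.prime_mul_iff] at this
  rcases this with ⟨-, h3⟩ | ⟨-, h3⟩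
  · omega
  · exact hp.ne_one h3

end Cfsg.Agent.Cond.S4068h

open Cfsg.Agent.Cond.S4068h in
/-- S4068, conditional on the recognition of `PSL(2, 2 ^ n)` by elementary abelian centralizers. -/
theorem Cfsg.Agent.Cond.S4068.{u} [Gate.S1230.{u}] : Gate.S4068.{u} := ⟨by
  intro G _ _ hns h4
  have hp := prime_orderOf hns h4
  obtain ⟨T⟩ : Nonempty (Sylow 2 G) := inferInstance
  have hnc : ¬ IsCyclic (T : Subgroup G) := fun h =>
    hns (Lib.Cor.isSolvable_of_isCyclic_sylow_two T h)
  have hnn : ¬ (T : Subgroup G).Normal := fun h =>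
    hns (Lib.Cor.isSolvable_of_normal_sylow_two T h)
  obtain ⟨F, _, _, hF, ⟨e⟩⟩ := Gate.S1230.out T hnc hnn (by
    intro t ht
    have h2 : ∀ c ∈ Subgroup.centralizer ({t} : Set G), c ^ 2 = 1 := fun c hc =>
      sq_eq_one_of_commute hp ht (Subgroup.mem_centralizer_singleton_iff.1 hc)
    refine ⟨⟨⟨fun a b => Subtype.ext ?_⟩⟩, h2⟩
    have ha := h2 a a.2
    have hb := h2 b b.2
    have hab := h2 (a * b) (mul_mem a.2 b.2)
    have e1 : (a : G)⁻¹ = a := by rw [inv_eq_iff_mul_eq_one, ← sq, ha]
    have e2 : (b : G)⁻¹ = b := by rw [inv_eq_iff_mul_eq_one, ← sq, hb]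
    have e3 : ((a : G) * b)⁻¹ = a * b := by rw [inv_eq_iff_mul_eq_one, ← sq, hab]
    rw [mul_inv_rev, e1, e2] at e3
    exact e3.symm)
  obtain ⟨k, hk⟩ := T.isPGroup'.exists_card_eq
  have hk2 : 2 ≤ k := by
    by_contra h
    apply hnc
    have : k = 0 ∨ k = 1 := by omega
    rcases this with rfl | rfl
    · have := (Nat.card_eq_one_iff_unique.1 hk).1
      infer_instance
    · exact isCyclic_of_prime_card (p := 2) (by simpa using hk)
  have hq : Fintype.card F = 2 ^ k := hF.trans hk
  have hq4 : 4 ≤ Fintype.card F := by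
    rw [hq]
    exact Nat.pow_le_pow_right (n := 2) (by norm_num) hk2
  have hch : CharP F 2 := by
    obtain ⟨p, hpc⟩ := CharP.exists F
    obtain ⟨n, hp', hn⟩ := FiniteField.card F p
    have : p = 2 := by
      have h1 : p ∣ 2 ^ k := by
        rw [← hq, hn]
        exact dvd_pow_self p n.ne_zero
      exact (Nat.prime_dvd_prime_iff_eq hp' Nat.prime_two).1 (hp'.dvd_of_dvd_pow h1)
    exact this ▸ hpc
  have hev : 2 ∣ Fintype.card F := by
    rw [hq]
    exact dvd_pow_self 2 (by omega)
  have hg : Nat.gcd 2 (Fintype.card F - 1) = 1 := by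
    rw [← Nat.coprime_iff_gcd_eq_one, Nat.Prime.coprime_iff_not_dvd Nat.prime_two]
    omega
  have hr := S2475.result (F := F) 2 hq4
  rw [hg, Nat.div_one, Nat.div_one] at hr
  have hpr : ∀ m : ℕ, 1 < m → m ∈ Set.range
      (orderOf : Matrix.ProjectiveSpecialLinearGroup (Fin 2) F → ℕ) → m.Prime := by
    rintro m hm ⟨x, rfl⟩
    rw [← e.symm.orderOf_eq]
    apply hp
    intro h
    rw [← e.symm.orderOf_eq, h, orderOf_one] at hm
    omega
  have h1 : (Fintype.card F - 1).Prime := hpr _ (by omega) (by rw [hr]; simp)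
  have h2 : (Fintype.card F + 1).Prime := hpr _ (by omega) (by rw [hr]; simp)
  have h3 : ¬ 3 ∣ Fintype.card F := by
    rw [hq]
    intro h
    have := Nat.prime_three.dvd_of_dvd_pow h
    omega
  have h4' : Fintype.card F = 4 := by
    have : 3 ∣ Fintype.card F - 1 ∨ 3 ∣ Fintype.card F + 1 := by
      obtain ⟨m, hm⟩ : ∃ m, Fintype.card F = m + 1 := ⟨Fintype.card F - 1, by omega⟩
      rw [hm] at h3 ⊢
      rw [Nat.add_sub_cancel]
      clear hev hm hq4 hk2
      omega
    rcases this with h | h
    · have := (Nat.prime_dvd_prime_iff_eq Nat.prime_three h1).1 h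
      omega
    · have := (Nat.prime_dvd_prime_iff_eq Nat.prime_three h2).1 h
      omega
  have hc := Lib.Class.gcd_mul_card_PSL2 (F := F)
  rw [Nat.card_eq_fintype_card (α := F), hg, h4', ← Nat.card_congr e.toEquiv] at hc
  refine Lib.Class.nonempty_mulEquiv_A5_of_pow (by omega) fun g => ?_
  have : orderOf (e g) ∈ Set.range
      (orderOf : Matrix.ProjectiveSpecialLinearGroup (Fin 2) F → ℕ) := ⟨_, rfl⟩
  rw [hr, h4', e.orderOf_eq] at this
  simpa only [Set.mem_ofPred_eq, orderOf_dvd_iff_pow_eq_one] using this⟩
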