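import Cfsg.Agent.Gate.S4087
import Cfsg.Agent.CITCor.EPPOGen

set_option autoImplicit false
open Cfsg Cfsg.Agent

open Cfsg.Lib Cfsg.Lib.CITCor

/-- S4087, conditional on the listed gates. -/
theorem Cfsg.Agent.Cond.S4087.{u} [Gate.CITStrong.{u}] : Gate.S4087.{u} := ⟨by
  intro G _ _ h
  have h : EPPO G := h
  by_cases h3 : 3 ≤ (Nat.card G).primeFactors.card
  swap
  · exact ⟨by omega, fun h4 => by omega⟩
  have hO := Solv.pCore_isPGroup 2 G
  have key : ∀ n, Nat.card (G ⧸ pCore 2 G) = n → 2 ∣ n →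
      (Nat.card G).primeFactors.card = n.primeFactors.card := fun n hn h2 => by
    rw [primeFactors_card_quotient hO (hn ▸ h2), hn]
  rcases h.quotient_cases (h.not_isSolvable h3) with ⟨F, i1, i2, hF, ⟨e⟩⟩ | ⟨F, i1, i2, hF, ⟨e⟩⟩ |
    ⟨F, i1, i2, hF⟩ | h4
  · have h5 : (Nat.card G).primeFactors.card = 3 := by
      obtain ⟨c1, c2, c3, c4, c5⟩ := card_psl2_cases (F := F)
      have he := Nat.card_congr e.toEquiv
      simp only [Finset.mem_insert, Finset.mem_singleton] at hF
      rcases hF with hF | hF | hF | hF | hF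
      · rw [key _ (he.trans (c1 hF)) (by norm_num)]; decide +kernel
      · rw [key _ (he.trans (c2 hF)) (by norm_num)]; decide +kernel
      · rw [key _ (he.trans (c3 hF)) (by norm_num)]; decide +kernel
      · rw [key _ (he.trans (c4 hF)) (by norm_num)]; decide +kernel
      · rw [key _ (he.trans (c5 hF)) (by norm_num)]; decide +kernel
    exact ⟨by omega, fun h4 => by omega⟩
  · refine ⟨?_, fun _ => Or.inl ⟨F, i1, i2, hF, ⟨?_⟩⟩⟩
    · rw [key _ ((Nat.card_congr e.toEquiv).trans (Recog.card_psl3_four hF)) (by norm_num)]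
      decide +kernel
    · exact (QuotientGroup.quotientBot.symm.trans (QuotientGroup.quotientMulEquivOfEq
        (eq_bot_of_quotient_l34 h.isCIT hO hF e).symm)).trans e
  · refine ⟨?_, fun _ => Or.inr ⟨_, inferInstance, hO, F, i1, i2, hF⟩⟩
    rcases hF with ⟨hF, ⟨e⟩⟩ | ⟨hF, ⟨e⟩⟩
    · rw [key _ ((Nat.card_congr e.toEquiv).trans (card_sz_cases.1 hF)) (by norm_num)]
      decide +kernel
    · rw [key _ ((Nat.card_congr e.toEquiv).trans (card_sz_cases.2 hF)) (by norm_num)]
      decide +kernel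
  · have h5 : (Nat.card G).primeFactors.card = 3 := by
      rw [key _ h4 (by norm_num)]; decide +kernel
    exact ⟨by omega, fun h4 => by omega⟩⟩
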