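import Cfsg.Agent.Gate.S4133
import Cfsg.Agent.WalCor.TwoIndex
import Cfsg.Agent.Perm.Derange
import Cfsg.Agent.Rank2.QuatSylow
import Cfsg.Agent.Solv.ClassSize
import Cfsg.Agent.S0089

set_option autoImplicit false
open Cfsg Cfsg.Agent Cfsg.Lib.WalCor Subgroup
open scoped Pointwise

theorem Cfsg.Lib.WalCor.exists_dvd_index {E : Type*} [Group E] [Finite E] {p : ℕ} [Fact p.Prime]
    (S : Sylow p E) (hS : ¬ (S : Subgroup E) ≤ center E) :
    ∃ z : E, p ∣ (centralizer ({z} : Set E)).index := by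
  by_contra hn
  push Not at hn
  let C := centralizer ((S : Subgroup E) : Set E)
  have h1 : Lib.Perm.Derange.der E (E ⧸ C) = ⊥ := by
    refine closure_eq_bot_iff.2 fun z hz => ?_
    obtain ⟨T, hT⟩ := Lib.Solv.ClassSize.exists_sylow_le_of_not_dvd_index (hn z)
    obtain ⟨g, rfl⟩ := MulAction.exists_smul_eq E S T
    refine absurd (QuotientGroup.eq.2 (inv_mem_iff.1 fun s hs => ?_)) (hz (g : E ⧸ C))
    have h2 := mem_centralizer_singleton_iff.1 (hT (smul_mem_pointwise_smul s (MulAut.conj g) _ hs))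
    simp only [MulAut.smul_def, MulAut.conj_apply, smul_eq_mul] at h2 ⊢
    calc _ = g⁻¹ * (g * s * g⁻¹ * z) * g := by group
      _ = _ := by rw [h2]; group
  refine hS fun s hs => mem_center_iff.2 fun g => ?_
  obtain ⟨⟨d, hd⟩, e⟩ := (Lib.Perm.Derange.der_main (G := E) (Ω := E ⧸ C)).1.exists_smul_eq
    ((1 : E) : E ⧸ C) (g : E ⧸ C)
  obtain rfl : d = 1 := h1.le hd
  have h2 : (1 * 1 : E)⁻¹ * g ∈ C := QuotientGroup.eq.1 e
  simpa using (h2 s hs).symm

/-- S4133, conditional on the listed gates (universe list must stay the statement's own). -/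
theorem Cfsg.Agent.Cond.S4133.{u} [Gate.WB.{u}] : Gate.S4133.{u} := ⟨by
  intro G _ _ hA a hmax ⟨x, hx⟩
  have := Fact.mk Nat.prime_two
  obtain ⟨n, hn⟩ := Lib.Rank2.exists_perfect_derivedSeries G
  set E := derivedSeries G n
  refine ⟨n, by_contra fun hE => ?_⟩
  have : Nontrivial E := (nontrivial_iff_ne_bot _).2 hE
  have hZ : center E = ⊥ := by
    have := S0089.result (G := E) fun p hp P => by
      have := Fact.mk hp
      obtain ⟨Q, hQ⟩ := (P.isPGroup'.map E.subtype).exists_le_sylow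
      refine ⟨⟨fun a b => Subtype.ext (Subtype.ext ?_)⟩⟩
      have := congrArg Subtype.val
        ((hA p Q).is_comm.comm ⟨_, hQ ⟨_, a.2, rfl⟩⟩ ⟨_, hQ ⟨_, b.2, rfl⟩⟩)
      exact this
    rwa [hn.commutator_eq_top, top_inf_eq] at this
  obtain ⟨S⟩ : Nonempty (Sylow 2 E) := inferInstance
  obtain ⟨z, hz⟩ := exists_dvd_index S fun h => by
    have h1 := S.not_dvd_index
    rw [eq_bot_iff.2 (h.trans hZ.le), index_bot] at h1
    exact Group.IsPerfect.not_isSolvable E
      (Lib.FT.odd_order_solvable (Nat.not_even_iff_odd.1 (even_iff_two_dvd.not.2 h1)))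
  have h1 : E ≤ centralizer {x} := subgroupOf_eq_top.1 (eq_top_of_perfect
    (Lib.Block.AbTwo.Ab2.subgroup (hA 2) E) (b := a)
    (hx ▸ Lib.Char.relIndex_dvd_index_of_normal_right' _ E))
  have hEn : E.Normal := inferInstance
  have h2 : centralizer {x * z} ≤ centralizer {(z : G)} ⊓ centralizer {x} := fun g hg => by
    have h3 := mem_centralizer_singleton_iff.1 hg
    have h4 : x⁻¹ * (g * x * g⁻¹) = z * (g * z * g⁻¹)⁻¹ := by
      calc _ = x⁻¹ * (g * (x * z)) * g⁻¹ * (g * z * g⁻¹)⁻¹ := by group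
        _ = _ := by rw [h3]; group
    have h5 : (z : G) * (g * z * g⁻¹)⁻¹ ∈ E := mul_mem z.2 (inv_mem (hEn.conj_mem _ z.2 g))
    have h6 : (⟨_, h5⟩ : E) ∈ center E := mem_center_iff.2 fun e => Subtype.ext (by
      have a1 := mem_centralizer_singleton_iff.1 (h1 e.2)
      have a2 := mem_centralizer_singleton_iff.1 (h1 (hEn.conj_mem' _ e.2 g))
      change e * (z * (g * z * g⁻¹)⁻¹) = z * (g * z * g⁻¹)⁻¹ * e
      rw [← h4]
      calc _ = x⁻¹ * (x * e) * x⁻¹ * g * x * g⁻¹ := by group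
        _ = x⁻¹ * g * (g⁻¹ * e * g * x) * g⁻¹ := by rw [← a1]; group
        _ = _ := by rw [a2]; group)
    have h7 : (z : G) * (g * z * g⁻¹)⁻¹ = 1 := congrArg Subtype.val (hZ.le h6)
    rw [h7, inv_mul_eq_one] at h4
    rw [mul_inv_eq_one] at h7
    exact ⟨mem_centralizer_singleton_iff.2 (eq_mul_inv_iff_mul_eq.1 h7).symm,
      mem_centralizer_singleton_iff.2 (eq_mul_inv_iff_mul_eq.1 h4).symm⟩
  refine hmax (x * z) (Dvd.dvd.trans ?_ (index_dvd_of_le h2))
  rw [← relIndex_mul_index inf_le_right, inf_relIndex_right, hx, pow_succ']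
  refine Nat.mul_dvd_mul_right (hz.trans ?_) _
  have h3 : centralizer {z} = (centralizer {(z : G)}).subgroupOf E := by
    ext y
    simp [mem_centralizer_singleton_iff, mem_subgroupOf, Subtype.ext_iff]
  rw [h3]
  change relIndex _ _ ∣ _
  rw [← relIndex_subgroupOf h1]
  exact Lib.Char.relIndex_dvd_index_of_normal_right' _ _⟩
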