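import Cfsg.Agent.Gate.S4136
import Cfsg.Agent.Gate.S4366

set_option autoImplicit false
open Cfsg Cfsg.Agent

/-- S4136, conditional on S4366. -/
theorem Cfsg.Agent.Cond.S4136.{u} [Gate.S4366.{u}] : Gate.S4136.{u} := ⟨by
  intro G _ _ m h
  have key : ∀ x : G, x ∈ (⊤ : Subgroup G) → (∃ y ∈ (⊤ : Subgroup G), x * y ≠ y * x) →
      IsPrimePow (orderOf x) → (Subgroup.centralizer ({x} : Set G)).index = m ∧ m ≠ 1 := by
    rintro x - ⟨y, -, hy⟩ ⟨r, k, hr, -, hk⟩
    have h1 : (Subgroup.centralizer ({x} : Set G)).index ≠ 1 := fun e => hy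
      (Subgroup.mem_centralizer_singleton_iff.1 ((Subgroup.index_eq_one.1 e).ge trivial)).symm
    have h2 := (h x ⟨r, k, hr.nat_prime, hk.symm⟩).resolve_left h1
    exact ⟨h2, h2 ▸ h1⟩
  have fin : Group.IsSolvable (⊤ : Subgroup G) → Group.IsSolvable G := fun _ =>
    Group.isSolvable_of_surjective (f := (⊤ : Subgroup G).subtype) fun x => ⟨⟨x, trivial⟩, rfl⟩
  by_cases h1 : m = 0 ∨ m = 1
  · have : Fact (Nat.Prime 2) := ⟨Nat.prime_two⟩
    refine fin (Gate.S4366.out ⊤ 2 1 le_rfl fun x a b c => ?_).1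
    obtain ⟨e1, e2⟩ := key x a b c
    exact absurd (e1.trans (h1.resolve_right e2)) Subgroup.index_ne_zero_of_finite
  · push Not at h1
    have : Fact m.minFac.Prime := ⟨Nat.minFac_prime h1.2⟩
    exact fin (Gate.S4366.out ⊤ m.minFac _
      ((this.out.dvd_iff_one_le_factorization h1.1).1 m.minFac_dvd) fun x a b c => by
        rw [(key x a b c).1]).1⟩
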