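import Cfsg.Agent.Gate.S4141
import Cfsg.Agent.FPFC.Basic

set_option autoImplicit false
open Cfsg Cfsg.Agent Cfsg.Lib Cfsg.Lib.FPFC Subgroup

/-- S4141, conditional on the listed gates (universe list must stay the statement's own). -/
theorem Cfsg.Agent.Cond.S4141.{u} [Gate.FPFCop.{u}] : Gate.S4141.{u} := ⟨by
  intro G _ _ N _ _ hN2 hcam
  obtain ⟨g, hg⟩ : ∃ g, g ∉ N := by
    by_contra c
    push Not at c
    exact hN2 (eq_top_iff.mpr fun g _ => c g)
  obtain ⟨p, hp, x, -, hx, hk⟩ := exists_primary hg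
  have := Fact.mk hp
  have h := coset_solv hk fun n hn => isConj_iff.mpr (hcam x hx n hn)
  exact ⟨Cor.isSolvable_of_normal_quotient N h, h⟩⟩
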