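import Cfsg.Agent.Gate.S4165
import Cfsg.Agent.FPFC.Graph
import Cfsg.Agent.FT.Final

set_option autoImplicit false
open Cfsg Cfsg.Agent Cfsg.Lib Cfsg.Lib.FPFC Subgroup Cfsg.Lib.Solv Cfsg.Lib.Solv.ClassSize

/-- S4165, conditional on the solvability of groups with nilpotent fixed point subgroup. -/
theorem Cfsg.Agent.Cond.S4165.{u, v} [Gate.S4319.{v, u}] : Gate.S4165.{u, v} := ⟨by
  intro G A _ _ _ _ _ hc X Y hX hY h1 h2
  by_cases hG : Odd (Nat.card G)
  · exact FT.odd_order_solvable hG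
  have hs : Group.IsSolvable A := FT.odd_order_solvable (Nat.Coprime.odd_of_right
    (hc.coprime_dvd_right (even_iff_two_dvd.mp (Nat.not_odd_iff_even.mp hG))))
  let φ := MulDistribMulAction.toMulAut A G
  have h3 : ∀ g ∈ Act.fix φ ⊤, (centralizer ({g} : Set G)).index ≠ 1 →
      ConjClasses.mk g ∈ X ∨ ConjClasses.mk g ∈ Y := fun g hg h => (h1 _).mp ⟨by
    rw [card_carrier_mk]
    exact Nat.one_lt_iff_ne_zero_and_ne_one.mpr ⟨index_ne_zero_of_finite, h⟩, fun a x hx => by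
    rw [ConjClasses.mem_carrier_iff_mk_eq, ConjClasses.mk_eq_mk_iff_isConj] at hx ⊢
    exact hg a (mem_top a) ▸ (φ a).toMonoidHom.map_isConj hx⟩
  have h4 : ∀ g h : G, ConjClasses.mk g ∈ X → ConjClasses.mk h ∈ Y →
      (centralizer ({g} : Set G)).index.Coprime (centralizer ({h} : Set G)).index :=
    fun g h hg hh => by rw [← card_carrier_mk, ← card_carrier_mk]; exact h2 _ hg _ hh
  have h5 : ∀ C, C ∈ X ∨ C ∈ Y → ∃ x ∈ Act.fix φ ⊤, ConjClasses.mk x = C ∧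
      (centralizer ({x} : Set G)).index ≠ 1 := fun C hC => by
    obtain ⟨g, rfl⟩ := ConjClasses.mk_surjective C
    obtain ⟨h6, h7⟩ := (h1 _).mpr hC
    obtain ⟨x, hx, h8⟩ := exists_fix_isConj (φ := φ) hc hs fun a =>
      (ConjClasses.mk_eq_mk_iff_isConj.mp (ConjClasses.mem_carrier_iff_mk_eq.mp
        (h7 a g ConjClasses.mem_carrier_mk))).symm
    refine ⟨x, hx, ConjClasses.mk_eq_mk_iff_isConj.mpr h8.symm, ?_⟩
    rw [← index_cent_of_isConj h8, ← card_carrier_mk]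
    exact h6.ne'
  obtain ⟨C, hC⟩ := hX
  obtain ⟨D, hD⟩ := hY
  obtain ⟨x, hx, rfl, hx1⟩ := h5 C (Or.inl hC)
  obtain ⟨y, hy, rfl, hy1⟩ := h5 D (Or.inr hD)
  obtain ⟨z, hz, hm⟩ := Set.exists_max_image (Act.fix φ ⊤ : Set G)
    (fun g => (centralizer ({g} : Set G)).index) (Set.toFinite _) ⟨x, hx⟩
  rcases h3 z hz fun e => hx1 (le_antisymm (e ▸ hm x hx)
    (Nat.pos_of_ne_zero index_ne_zero_of_finite)) with h | h
  · exact solv_of_split (X := fun g => ConjClasses.mk g ∈ Y) (Y := fun g => ConjClasses.mk g ∈ X)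
      hc hs (fun g h1 h2 => (h3 g h1 h2).symm) (fun g h h1 h2 => (h4 h g h2 h1).symm) hy hD hy1
      hz h hm
  · exact solv_of_split hc hs h3 h4 hx hC hx1 hz h hm⟩
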