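import Cfsg.Agent.Gate.S4194
import Cfsg.Agent.Gate.S1169
import Cfsg.Agent.Solv.CaminaHerzog

set_option autoImplicit false
open Cfsg Cfsg.Agent

/-- S4194, conditional on the listed gates (universe list must stay the statement's own). -/
theorem Cfsg.Agent.Cond.S4194.{u} [Gate.S1169.{u}] : Gate.S4194.{u} := ⟨by
  intro G _ _ P
  refine ⟨fun h x ⟨k, hk⟩ => ?_, fun h => ⟨⟨fun a b => Subtype.ext (Lib.Solv.caminaHerzog G
    (fun x hx => (h x hx).elim Lib.Solv.ClassSize.not_dvd_index_of_sylow_le) P a a.2 b b.2)⟩⟩⟩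
  obtain ⟨Q, hQ⟩ := Lib.Solv.ClassSize.exists_sylow_mem_of_pow_eq_one
    (show x ^ 2 ^ k = 1 by rw [← hk, pow_orderOf_eq_one])
  obtain ⟨g, rfl⟩ := MulAction.exists_smul_eq G P Q
  refine ⟨g • P, fun y hy => Lib.Solv.ClassSize.mem_cent.mpr ?_⟩
  obtain ⟨a, ha, rfl⟩ := Lib.Solv.mem_conj_smul_iff_exists.mp hQ
  obtain ⟨b, hb, rfl⟩ := Lib.Solv.mem_conj_smul_iff_exists.mp hy
  have : b * a = a * b := congrArg Subtype.val (h.is_comm.comm ⟨b, hb⟩ ⟨a, ha⟩)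
  calc g * b * g⁻¹ * (g * a * g⁻¹) = g * (b * a) * g⁻¹ := by group
    _ = _ := by rw [this]; group⟩
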