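import Cfsg.Agent.Gate.S4355
import Cfsg.Agent.Gate.S1169
import Cfsg.Agent.Solv.CaminaHerzog

set_option autoImplicit false
open Cfsg Cfsg.Agent

/-- S4355, conditional on the listed gates (universe list must stay the statement's own). -/
theorem Cfsg.Agent.Cond.S4355.{u} [Gate.S1169.{u}] : Gate.S4355.{u} := ⟨by
  intro G _ _ h P
  exact ⟨⟨fun a b => Subtype.ext (Lib.Solv.caminaHerzog G h P a a.2 b b.2)⟩⟩⟩
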