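import Cfsg.Agent.Gate.S4360
import Cfsg.Agent.FPFC.Esp

set_option autoImplicit false
open Cfsg Cfsg.Agent Cfsg.Lib Cfsg.Lib.FPFC Subgroup

/-- S4360, conditional on the coprime fixed-point-free solvability theorem. -/
theorem Cfsg.Agent.Cond.S4360.{u} [Gate.FPFCop.{u}] : Gate.S4360.{u} := ⟨by
  intro Γ _ _ R F X r s hr hs hR hF hRF hcomm hRX hFX _ hcop hCF
  subst hR
  have := Fact.mk hs
  exact (EH.of_esp hr hF hRF hcomm hRX hFX hcop hCF).fit_le'⟩
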