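import Cfsg.Agent.Gate.S4361
import Cfsg.Agent.FPFC.Esp

set_option autoImplicit false
open Cfsg Cfsg.Agent Cfsg.Lib Cfsg.Lib.FPFC Subgroup

/-- S4361, conditional on the coprime fixed-point-free solvability theorem. -/
theorem Cfsg.Agent.Cond.S4361.{u} [Gate.FPFCop.{u}] : Gate.S4361.{u} := ⟨by
  intro Γ _ _ R F X r s hr hnF hs hR hF hRF hcomm hRX hFX _ hcop hCF n
  subst hR
  have := Fact.mk hs
  exact Solv.FH.hasFitLen_subgroup_iff.trans
    (((EH.of_esp hr hF hRF hcomm hRX hFX hcop hCF).iter_iff hnF n).trans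
      Solv.FH.hasFitLen_subgroup_iff.symm)⟩
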