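import Cfsg.Agent.Gate.S4367
import Cfsg.Agent.FPFC.Cls

set_option autoImplicit false
open Cfsg Cfsg.Agent Cfsg.Lib Cfsg.Lib.FPFC Subgroup

/-- S4367, conditional on the coprime fixed-point-free solvability theorem. -/
theorem Cfsg.Agent.Cond.S4367.{u} [Gate.FPFCop.{u}] : Gate.S4367.{u} := ⟨by
  intro G _ _ N _ hN m h
  refine (Nat.dvd_iff_prime_pow_dvd_dvd _ _).mpr fun p k hp hk => ?_
  have := Fact.mk hp
  rcases Nat.eq_zero_or_pos k with rfl | k0
  · simp
  have h1 : ∀ x ∈ N, x ∉ centralizer (N : Set G) → p ^ k ∣ (centralizer ({x} : Set G)).index :=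
    fun x hx hc => hk.trans (dvd_index_of_primary h hx hc)
  obtain ⟨P⟩ : Nonempty (Sylow p G) := inferInstance
  have h2 : p ∣ (center N).index := by
    by_contra c
    exact hN (solv_of_not_dvd P.isPGroup' c (inf_cent_sylow_le P fun x hx hc =>
      (dvd_pow_self p k0.ne').trans (h1 x hx hc)))
  refine Nat.Coprime.dvd_of_dvd_mul_right (Nat.Coprime.pow_left k ?_) (dvd_card_center_mul h1)
  refine hp.coprime_iff_not_dvd.mpr fun c => hp.one_lt.ne' (Nat.dvd_one.mp ?_)
  have h3 := Nat.dvd_sub h2 c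
  rwa [Nat.sub_sub_self (Nat.pos_of_ne_zero index_ne_zero_of_finite)] at h3⟩
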