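import Cfsg.Agent.Gate.S4418
import Cfsg.Agent.Gate.S5212
import Cfsg.Agent.Gate.S0949
import Cfsg.Agent.Cor.OddSol
import Cfsg.Agent.S1946
import Cfsg.Agent.Fus.GroupFusion

set_option autoImplicit false
open Cfsg Cfsg.Agent

namespace Cfsg.Agent.Cond.S4418h

universe u

theorem homo [Gate.S0949.{u}] {m : ℕ} (hm : 2 ≤ m) (n : ℕ) :
    ∀ (G : Type u) [Group G] [Finite G] (P : Sylow 2 G), Nat.card G = n →
      Nonempty ((P : Subgroup G) ≃* Multiplicative (ZMod (2 ^ m) × ZMod (2 ^ m))) →
      Group.IsSolvable G := by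
  induction n using Nat.strong_induction_on with
  | _ n ih =>
  intro G _ _ P hn ⟨e⟩
  by_cases hO : ∀ N : Subgroup G, N.Normal → Odd (Nat.card N) → N = ⊥
  · exact Lib.Cor.isSolvable_of_normal_sylow_two P (Gate.S0949.out P m hm e hO).1
  push Not at hO
  obtain ⟨N, hN, hodd, hne⟩ := hO
  refine Lib.Cor.isSolvable_of_normal_odd N hodd
    (ih _ ?_ (G ⧸ N) (P.mapSurjective (QuotientGroup.mk'_surjective N)) rfl ?_)
  · rw [← hn, Subgroup.card_eq_card_quotient_mul_card_subgroup N]
    exact lt_mul_of_one_lt_right Nat.card_pos (Subgroup.one_lt_card_iff_ne_bot N |>.2 hne)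
  · have hinj : Function.Injective ((QuotientGroup.mk' N).subgroupMap (P : Subgroup G)) := by
      rw [injective_iff_map_eq_one]
      intro x hx
      have hxN : (x : G) ∈ N := (QuotientGroup.eq_one_iff _).1 (congrArg Subtype.val hx)
      obtain ⟨k, hk⟩ := P.isPGroup' x
      have h1 : orderOf (x : G) ∣ 2 ^ k := by
        rw [orderOf_dvd_iff_pow_eq_one]
        exact congrArg Subtype.val hk
      have h2 : orderOf (x : G) ∣ Nat.card N := Subgroup.orderOf_dvd_natCard N hxN
      have h3 : (2 ^ k).Coprime (Nat.card N) :=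
        Nat.Coprime.pow_left _ ((Nat.coprime_two_left).2 hodd)
      have := Nat.eq_one_of_dvd_coprimes h3 h1 h2
      exact Subtype.ext (orderOf_eq_one_iff.1 this)
    exact ⟨(MulEquiv.ofBijective _
      ⟨hinj, MonoidHom.subgroupMap_surjective _ _⟩).symm.trans e⟩

variable {S Q : Type*} [Group S] [Group Q]

theorem sq_of_inv {f : S →* Q} (hQ : ∀ a b : Q, a * b = b * a) {x y : S}
    (h : y * x * y⁻¹ = x⁻¹) : f x ^ 2 = 1 := by
  have := congrArg f h
  rw [map_mul, map_mul, map_inv, map_inv, hQ (f y), mul_inv_cancel_right] at this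
  rw [sq]
  nth_rewrite 1 [this]
  exact inv_mul_cancel _

theorem dihedral_sq {m : ℕ} (f : DihedralGroup m →* Q) (hQ : ∀ a b : Q, a * b = b * a)
    (x : DihedralGroup m) : f x ^ 2 = 1 := by
  cases x with
  | r i => exact sq_of_inv hQ (y := DihedralGroup.sr 0) (by simp)
  | sr i => rw [← map_pow, sq, DihedralGroup.sr_mul_self, map_one]

theorem quaternion_sq {m : ℕ} (f : QuaternionGroup (2 * m) →* Q) (hQ : ∀ a b : Q, a * b = b * a)
    (x : QuaternionGroup (2 * m)) : f x ^ 2 = 1 := by
  have h1 : ∀ i, f (QuaternionGroup.a i) ^ 2 = 1 := fun i =>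
    sq_of_inv hQ (y := QuaternionGroup.xa 0) (by
      rw [mul_inv_eq_iff_eq_mul, eq_inv_mul_iff_mul_eq]
      simp)
  cases x with
  | a i => exact h1 i
  | xa i =>
    rw [← map_pow, QuaternionGroup.xa_sq, ← h1 (m : ZMod (2 * (2 * m))), ← map_pow, sq,
      QuaternionGroup.a_mul_a]
    congr 2
    push_cast
    ring

theorem sq_eq_one_of_pow {a b : ℕ} (h : a.Coprime b) (z : S) (h1 : z ^ b = 1)
    (h2 : z = z ^ (2 * a + 1)) : z ^ 2 = 1 := by
  rw [pow_succ, right_eq_mul, pow_mul] at h2
  have h3 : (z ^ 2) ^ b = 1 := by rw [← pow_mul, mul_comm, pow_mul, h1, one_pow]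
  exact (pow_eq_one_iff_of_coprime h).1 ⟨h2, h3⟩

theorem quasi_sq [Finite S] (h : IsQuasiDihedral S) (f : S →* Q)
    (hQ : ∀ a b : Q, a * b = b * a) (s : S) : f s ^ 2 = 1 := by
  obtain ⟨n, hn, hc, x, y, hx, hy, hxy⟩ := h
  obtain ⟨k, rfl⟩ : ∃ k, n = k + 3 := ⟨n - 3, by omega⟩
  have hpow : 2 ^ (k + 3 - 1) - 1 = 2 * (2 * 2 ^ k - 1) + 1 := by
    have : 0 < 2 ^ k := by positivity
    rw [show k + 3 - 1 = k + 2 by omega, pow_add]
    omega
  rw [hpow] at hxy
  have hodd : (2 * 2 ^ k - 1).Coprime (2 ^ (k + 3)) := by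
    refine Nat.Coprime.pow_right _ ((Nat.coprime_two_right).2 ?_)
    have : 0 < 2 ^ k := by positivity
    exact ⟨2 ^ k - 1, by omega⟩
  have hx1 : x ^ 2 ^ (k + 3) = 1 := hx ▸ pow_orderOf_eq_one x
  have hfx : f x ^ 2 = 1 := by
    refine sq_eq_one_of_pow hodd _ (by rw [← map_pow, hx1, map_one]) ?_
    have := congrArg f hxy
    rwa [map_mul, map_mul, map_inv, hQ (f y), mul_inv_cancel_right, map_pow] at this
  have hfy : f y ^ 2 = 1 := by rw [← map_pow, ← hy, pow_orderOf_eq_one, map_one]
  have hyx : y ∉ Subgroup.zpowers x := by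
    rintro ⟨i, rfl⟩
    have h1 : x ^ i * x * (x ^ i)⁻¹ = x := by group
    have h2 := sq_eq_one_of_pow hodd x hx1 (h1.symm.trans hxy)
    have h3 := orderOf_dvd_of_pow_eq_one h2
    rw [hx] at h3
    have := Nat.le_of_dvd two_pos h3
    have : 0 < 2 ^ k := by positivity
    rw [pow_add] at *
    omega
  let K : Subgroup S :=
    { carrier := {s | f s ^ 2 = 1}
      one_mem' := by simp
      mul_mem' := fun {a b} ha hb => by
        simp only [Set.mem_ofPred_eq] at ha hb ⊢
        rw [map_mul, (show Commute (f a) (f b) from hQ _ _).mul_pow, ha, hb, one_mul]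
      inv_mem' := fun {a} ha => by
        simp only [Set.mem_ofPred_eq] at ha ⊢
        rw [map_inv, inv_pow, ha, inv_one] }
  have hlt : Subgroup.zpowers x < K :=
    lt_of_le_of_ne (Subgroup.zpowers_le.2 hfx) fun e => hyx (e ▸ hfy)
  have hi : (Subgroup.zpowers x).index = 2 := by
    have := (Subgroup.zpowers x).card_mul_index
    rw [Nat.card_zpowers, hx, hc, pow_succ 2 (k + 3)] at this
    exact Nat.eq_of_mul_eq_mul_left (by positivity) this
  have hK : K = ⊤ := by
    have h1 := Subgroup.relIndex_mul_index hlt.le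
    rw [hi] at h1
    have h2 : (Subgroup.zpowers x).relIndex K ≠ 1 := fun e =>
      hlt.not_ge (Subgroup.relIndex_eq_one.1 e)
    rw [← Subgroup.index_eq_one]
    rcases (Nat.dvd_prime Nat.prime_two).1 (Dvd.intro _ h1) with h3 | h3
    · exact absurd h3 h2
    · rw [h3] at h1
      omega
  exact (hK ▸ Subgroup.mem_top s : s ∈ K)

theorem card_le_two_of_cyclic [Finite Q] (hc : IsCyclic Q) (h : ∀ x : Q, x ^ 2 = 1) :
    Nat.card Q ≤ 2 := by
  obtain ⟨g, hg⟩ := hc.exists_generator
  rw [← orderOf_eq_card_of_forall_mem_zpowers hg]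
  exact Nat.le_of_dvd two_pos (orderOf_dvd_of_pow_eq_one (h g))

theorem card_le_four [Finite Q] (N : Subgroup S) [N.Normal] (h1 : IsCyclic N)
    (h2 : IsCyclic (S ⧸ N)) (g : S →* Q) (hg : Function.Surjective g) (h : ∀ x : Q, x ^ 2 = 1) :
    Nat.card Q ≤ 4 := by
  have hn : (N.map g).Normal := Subgroup.Normal.map inferInstance g hg
  have a1 : Nat.card (N.map g) ≤ 2 :=
    card_le_two_of_cyclic (isCyclic_of_surjective _ (g.subgroupMap_surjective N))
      fun x => Subtype.ext (h x)
  have a2 : Nat.card (Q ⧸ N.map g) ≤ 2 := by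
    refine card_le_two_of_cyclic (isCyclic_of_surjective
      (QuotientGroup.map N (N.map g) g (N.le_comap_map g)) ?_) fun x => ?_
    · intro q
      obtain ⟨q, rfl⟩ := QuotientGroup.mk_surjective q
      obtain ⟨s, rfl⟩ := hg q
      exact ⟨s, rfl⟩
    · obtain ⟨q, rfl⟩ := QuotientGroup.mk_surjective x
      rw [← QuotientGroup.mk_pow, h, QuotientGroup.mk_one]
  rw [Subgroup.card_eq_card_quotient_mul_card_subgroup (N.map g)]
  exact Nat.mul_le_mul a2 a1

end Cfsg.Agent.Cond.S4418h

open Cfsg.Agent.Cond.S4418h in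
/-- S4418, conditional on the fusion theorem for metacyclic `2`-groups and Brauer's theorem on
homocyclic Sylow `2`-subgroups. -/
theorem Cfsg.Agent.Cond.S4418.{u} [Gate.S5212.{u}] [Gate.S0949.{u}] : Gate.S4418.{u} := ⟨by
  intro G _ _ S N hN hNc hQc hQ
  have hcomm : ∀ a b : (S : Subgroup G) ⧸ N, a * b = b * a := fun a b =>
    (IsCyclic.isMulCommutative (α := (S : Subgroup G) ⧸ N)).is_comm.comm a b
  have hsq : ¬ ∀ s : (S : Subgroup G), QuotientGroup.mk' N s ^ 2 = 1 := fun h => by
    have := card_le_two_of_cyclic hQc fun x => by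
      obtain ⟨s, rfl⟩ := QuotientGroup.mk_surjective x
      exact h s
    omega
  by_cases hcyc : IsCyclic (S : Subgroup G)
  · exact Lib.Cor.isSolvable_of_isCyclic_sylow_two S hcyc
  by_cases hh : ∃ n k : ℕ, Nonempty ((S : Subgroup G) ≃* Multiplicative (Fin k → ZMod (2 ^ n)))
  · obtain ⟨n, k, ⟨e⟩⟩ := hh
    have hn : 2 ≤ n := by
      by_contra hn
      apply hsq
      intro s
      have : s ^ 2 = 1 := by
        apply e.injective
        rw [map_pow, map_one]
        have h2 : ((2 : ℕ) : ZMod (2 ^ n)) = 0 := by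
          rw [ZMod.natCast_eq_zero_iff]
          have : n = 0 ∨ n = 1 := by omega
          rcases this with rfl | rfl <;> simp
        apply Multiplicative.toAdd.injective
        rw [toAdd_pow, toAdd_one]
        funext i
        rw [Pi.smul_apply, nsmul_eq_mul, h2, zero_mul, Pi.zero_apply]
      rw [← map_pow, this, map_one]
    have hk : k ≤ 2 := by
      let c : ZMod (2 ^ n) →+* ZMod 2 := ZMod.castHom (dvd_pow_self 2 (by omega)) (ZMod 2)
      let g : (Fin k → ZMod (2 ^ n)) →+ (Fin k → ZMod 2) := c.toAddMonoidHom.compLeft (Fin k)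
      have hg : Function.Surjective g := fun y => by
        choose x hx using fun i => ZMod.castHom_surjective (dvd_pow_self 2 (show n ≠ 0 by omega))
          (y i)
        exact ⟨x, funext hx⟩
      have := card_le_four N hNc hQc ((AddMonoidHom.toMultiplicative g).comp e.toMonoidHom)
        (Function.Surjective.comp (g := AddMonoidHom.toMultiplicative g) hg e.surjective)
        (fun x => by
          apply Multiplicative.toAdd.injective
          rw [toAdd_pow, toAdd_one]
          funext i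
          rw [Pi.smul_apply, nsmul_eq_mul, Pi.zero_apply]
          exact mul_eq_zero_of_left rfl _)
      rw [Nat.card_congr Multiplicative.toAdd, Nat.card_pi] at this
      simp only [Nat.card_zmod, Finset.prod_const, Finset.card_univ, Fintype.card_fin] at this
      by_contra hk
      have := Nat.pow_le_pow_right (n := 2) two_pos (show 3 ≤ k by omega)
      omega
    have : k = 0 ∨ k = 1 ∨ k = 2 := by omega
    rcases this with rfl | rfl | rfl
    · exact absurd (isCyclic_of_surjective e.symm e.symm.surjective) hcyc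
    · have e2 : Multiplicative (Fin 1 → ZMod (2 ^ n)) ≃* Multiplicative (ZMod (2 ^ n)) :=
        AddEquiv.toMultiplicative (AddEquiv.funUnique _ _)
      exact absurd (isCyclic_of_surjective (e.trans e2).symm (e.trans e2).symm.surjective) hcyc
    · exact homo hn _ G S rfl ⟨e.trans (AddEquiv.toMultiplicative
        (LinearEquiv.finTwoArrow ℤ (ZMod (2 ^ n))).toAddEquiv)⟩
  have hF := Gate.S5212.out S.isPGroup' (groupFusionSystem (S : Subgroup G))
    (Lib.Fus.Grp.groupFusionSystem_isSaturated S) ⟨N, hN, hNc, hQc⟩ hh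
    (by
      rintro ⟨m, ⟨e⟩⟩
      apply hsq
      intro s
      have := dihedral_sq ((QuotientGroup.mk' N).comp e.symm.toMonoidHom) hcomm (e s)
      simpa using this)
    (by
      rintro ⟨m, ⟨e⟩⟩
      obtain ⟨k, hk⟩ := S.isPGroup'.exists_card_eq
      have hm0 : m ≠ 0 := by
        rintro rfl
        have : Finite (QuaternionGroup 0) := Finite.of_equiv _ e.toEquiv
        have : Finite (ZMod (2 * 0)) := Finite.of_injective (QuaternionGroup.a (n := 0))
          fun a b h => by injection h
        exact not_finite (ZMod 0)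
      have := NeZero.mk hm0
      rw [Nat.card_congr e.toEquiv, Nat.card_eq_fintype_card, QuaternionGroup.card] at hk
      have hm : m ∣ 2 ^ k := Dvd.intro_left _ hk
      obtain ⟨j, -, rfl⟩ := (Nat.dvd_prime_pow Nat.prime_two).1 hm
      rcases j with _ | j
      · have := QuaternionGroup.quaternionGroup_one_isCyclic
        rw [pow_zero] at e
        exact hcyc (isCyclic_of_surjective e.symm e.symm.surjective)
      · apply hsq
        intro s
        rw [pow_succ'] at e
        have := quaternion_sq ((QuotientGroup.mk' N).comp e.symm.toMonoidHom) hcomm (e s)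
        simpa using this)
    (fun h => hsq (quasi_sq h _ hcomm))
  refine Lib.Cor.isSolvable_of_hasNormalPComplement_two ((S1946.result S).2 ?_)
  intro a ha _ g hg
  have h1 : conjHom (Subgroup.zpowers a) g ∈
      (groupFusionSystem (S : Subgroup G)).Hom (Subgroup.zpowers a) := by
    refine ⟨Subgroup.zpowers_le.2 ha, ?_, g, fun x => rfl⟩
    rintro ⟨x, i, rfl⟩
    have : g * a ^ i * g⁻¹ = (g * a * g⁻¹) ^ i := conj_zpow.symm
    show g * a ^ i * g⁻¹ ∈ _
    rw [this]
    exact zpow_mem hg i
  rw [hF] at h1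
  obtain ⟨-, x, hx, h2⟩ := h1
  exact ⟨x, hx, h2 ⟨a, Subgroup.mem_zpowers a⟩⟩⟩
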