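import Cfsg.Agent.Gate.S4523
import Cfsg.Agent.Block.AbTwoReal

set_option autoImplicit false
open Cfsg Cfsg.Agent Cfsg.Lib.Block

/-- S4523, conditional on the listed gates. -/
theorem Cfsg.Agent.Cond.S4523.{u} [Gate.WB.{u}] : Gate.S4523.{u} := ⟨by
  intro S _ _ _ hna P hP M hM k hk₁ hk₂
  have h := AbTwo.ab2_of_sylow P hP
  have hk : ∀ g : S, g ^ k = g⁻¹ := fun g => by
    obtain ⟨x, y, rfl, hc, hx, hy⟩ := exists_isPPart Nat.prime_two g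
    rw [hc.mul_pow, hk₁ x hx, hk₂ y (Nat.odd_iff.2 (Nat.two_dvd_ne_zero.1 hy)), mul_inv_rev,
      inv_eq_of_mul_eq_one_right ((AbTwo.elem_simple hna h).1 x hx), hc.inv_right.eq]
  obtain ⟨t, ht⟩ := AbTwo.exists_inv_simple hna
  obtain ⟨χ, h1, h2⟩ := AbTwo.exists_real_even hM hna h
  obtain ⟨ψ, h3, h4, h5⟩ := AbTwo.exists_real_princ hM ht
  exact ⟨⟨χ, h2, fun g => by rw [hk, ← barI_apply_eq_inv, h1]⟩, ψ, h3, h4,
    fun g => by rw [hk, ← barI_apply_eq_inv, h5]⟩⟩
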