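import Cfsg.Agent.Gate.S4570
import Cfsg.Agent.Block.AbTwoHZ
import Cfsg.Agent.Block.PrincRank

set_option autoImplicit false
open Cfsg Cfsg.Agent Cfsg.Lib.Block

/-- S4570, conditional on the listed gates. -/
theorem Cfsg.Agent.Cond.S4570.{u} [Gate.WB.{u}] : Gate.S4570.{u} := ⟨by
  intro G _ _ M hM P hab x hx hl
  have h := AbTwo.card_modEq hM (AbTwo.ab2_of_sylow P hab) P hx
    ((Ht.blockRank_principal_eq_one_iff hM).1 hl)
  have : Nonempty (principalBlock M G) := (block_nonempty hM isPBlock_principalBlock).to_subtype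
  have h0 : 0 < Nat.card (principalBlock M G) := Nat.card_pos
  omega⟩
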