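import Cfsg.Agent.Gate.S4753
import Cfsg.Agent.Ngrp.SadExt

set_option autoImplicit false
open Cfsg Cfsg.Agent Cfsg.Lib Cfsg.Lib.Ngrp Cfsg.Lib.Solv Cfsg.Lib.Solv.Avg Cfsg.Lib.Known.GL2

attribute [local instance] sadFactFive sadFactSeven

/-- S4753, conditional on the list of the minimal simple groups. -/
theorem Cfsg.Agent.Cond.S4753.{u} [Gate.MinSimple.{u}] : Gate.S4753.{u} := ⟨by
  intro G _ _ hSAD
  rw [or_iff_not_imp_left]
  have h0 : AllSad G := fun H hH => sad_of_finsum (hSAD H hH)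
  clear hSAD
  revert h0
  refine card_induction (P := fun G _ _ => AllSad G → ¬ Group.IsSolvable G →
    Nonempty (G ≃* PSL2 (ZMod 7)) ∨ (∃ (F : Type) (_ : Field F) (_ : Fintype F) (q : ℕ),
      q.Prime ∧ Fintype.card F = 2 ^ q ∧ Nonempty (G ≃* PSL2 F)) ∨
      Nonempty (G ≃* SL2 (ZMod 5))) (fun G _ _ ih h hG => ?_) G
  by_cases h2 : ∀ N : Subgroup G, N.Normal → N = ⊥ ∨ N = ⊤
  · have key : ∀ (F : Type) [Field F] [Fintype F], (G ≃* PSL2 F) → Odd (Fintype.card F) →
        Fintype.card F < 11 := fun F _ _ e ho => by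
      have := finite_PSL2 (F := F)
      by_contra h11
      exact not_allSad_psl2 (two_ne_zero_of_odd ho) (not_lt.1 h11)
        (h.of_surjective e.toMonoidHom e.surjective)
    have hm := isMinimalSimple_of_forall hG (fun H => h.isSolvable) h2
    rcases Gate.MinSimple.out hm with
      ⟨p, hp, F, _, _, hF, e⟩ | ⟨p, hp, hp2, F, _, _, hF, ⟨e⟩⟩ | ⟨p, hp, h5, F, _, _, hF, ⟨e⟩⟩ |
      ⟨⟨e⟩⟩ | ⟨F, _, _, m, hm, -, hF, ⟨e⟩⟩
    · exact .inr (.inl ⟨F, _, _, p, hp, hF, e⟩)
    · have h1 := key F e (hF ▸ Odd.pow (by decide))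
      have h3 : 3 ^ 3 ≤ 3 ^ p := Nat.pow_le_pow_right three_pos (by have := hp.two_le; omega)
      omega
    · have h1 := key F e (hF ▸ hp.odd_of_ne_two (by omega))
      have h3 : p = 5 ∨ p = 7 := by
        have : p ≠ 8 := by rintro rfl; norm_num at hp
        omega
      rcases h3 with rfl | rfl
      · have := hm.1
        have := Fintype.ofFinite (GaloisField 2 2)
        have h4 : Fintype.card (GaloisField 2 2) = 2 ^ 2 := by
          rw [← Nat.card_eq_fintype_card, GaloisField.card 2 2 two_ne_zero]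
        have := finite_PSL2 (F := GaloisField 2 2)
        have := Matrix.ProjectiveSpecialLinearGroup.rank_two_simple (F := GaloisField 2 2)
          (by rw [Nat.card_eq_fintype_card, h4]; norm_num)
        obtain ⟨f⟩ := Class.nonempty_ringEquiv_zmod hp hF
        obtain ⟨e1⟩ := Class.nonempty_mulEquiv_A5_of_isSimpleGroup (G := G)
          ((Nat.card_congr (e.trans (Class.pslEquiv _ f)).toEquiv).trans card_PSL2_five)
        obtain ⟨e2⟩ := Class.nonempty_mulEquiv_A5_of_isSimpleGroup (G := PSL2 (GaloisField 2 2))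
          (by rw [← Nat.card_congr (equivPSL (CharP.cast_eq_zero _ 2)).toEquiv, card_SL_two, h4]
              norm_num)
        exact .inr (.inl ⟨_, _, _, 2, Nat.prime_two, h4, ⟨e1.trans e2.symm⟩⟩)
      · obtain ⟨f⟩ := Class.nonempty_ringEquiv_zmod hp hF
        exact .inl ⟨e.trans (Class.pslEquiv _ f)⟩
    · let e' := e.trans (MulEquiv.ofBijective (QuotientGroup.mk' (Subgroup.center SL33))
        ⟨mk_SL33_injective, QuotientGroup.mk'_surjective _⟩).symm
      exact absurd (h.of_surjective e'.toMonoidHom e'.surjective) not_allSad_SL33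
    · exact absurd h (not_allSad_sz ((Chev.lieSzModel hm hF).ofEquiv e))
  simp only [not_forall, not_or] at h2
  obtain ⟨K, hK, hb, ht⟩ := h2
  have := h.isSolvable ht
  obtain ⟨r, N, hr, hN, hNK, hc, hpow, hNp⟩ := exists_isMinNormal_elementary_le K hb
  have := hN.normal
  have h3 : ¬ Group.IsSolvable (G ⧸ N) := fun h => hG
    (Cor.isSolvable_of_normal_quotient N (isSolvable_of_le hNK inferInstance) h)
  have key : ∀ (Y : Type) [Group Y] (e : G ⧸ N ≃* Y),
      SadExt (e.toMonoidHom.comp (QuotientGroup.mk' N)) r := fun Y _ e => by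
    have hk : (e.toMonoidHom.comp (QuotientGroup.mk' N)).ker = N := by
      ext x
      simp
    refine ⟨h, hG, e.surjective.comp (QuotientGroup.mk'_surjective N), hr, hk.symm ▸ hNp,
      hk.symm ▸ hc, ?_⟩
    rw [hk, or_iff_not_imp_right, not_not, Subgroup.centralizer_eq_top_iff_subset]
    intro hZ
    refine ⟨hZ, ?_⟩
    obtain ⟨⟨x, hx⟩, hx1⟩ := Subgroup.ne_bot_iff_exists_ne_one.1 hN.ne_bot
    have hx2 : x ≠ 1 := fun e => hx1 (Subtype.ext e)
    have : (Subgroup.zpowers x).Normal := ⟨fun a ha g => by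
      rwa [Subgroup.mem_center_iff.1 (hZ (Subgroup.zpowers_le.2 hx ha)) g, mul_inv_cancel_right]⟩
    have := Fact.mk hr
    rw [← hN.eq_of_le (Subgroup.zpowers_ne_bot.2 hx2) (Subgroup.zpowers_le.2 hx), Nat.card_zpowers]
    exact orderOf_eq_prime (hpow x hx) hx2
  rcases ih _ (card_quotient_lt hN.ne_bot) (h.of_surjective _ (QuotientGroup.mk'_surjective N)) h3
    with ⟨⟨e⟩⟩ | ⟨F, _, _, q, hq, hF, ⟨e⟩⟩ | ⟨⟨e⟩⟩
  · exact (key _ e).seven.elim
  · exact .inr (.inr ((key _ e).char_two hq.two_le hF))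
  · exact (key _ e).five.elim⟩
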