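import Cfsg.Agent.Gate.S4990
import Cfsg.Agent.Gate.S4265
import Cfsg.Agent.KR.Blk

set_option autoImplicit false
open Cfsg Cfsg.Agent

/-- S4990, conditional on the listed gates (universe list must stay the statement's own). -/
theorem Cfsg.Agent.Cond.S4990.{u} [Gate.S4265] : Gate.S4990.{u} := ⟨by
  intro G _ _ hsolv p _ M hM B hB _
  rw [← Nat.card_coe_set_eq]
  exact Cfsg.Lib.KR.card_block_le hM G hsolv hB⟩
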