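import Cfsg.Agent.Gate.S5109
import Cfsg.Agent.Fus.StellF
import Cfsg.Agent.Fus.ActSecAut

set_option autoImplicit false
open Cfsg Cfsg.Agent Cfsg.Lib.Fus

/-- S5109, conditional on the listed gates (universe list must stay the statement's own). -/
theorem Cfsg.Agent.Cond.S5109.{u} [Gate.S0665.{u}] : Gate.S5109.{u} := ⟨by
  intro Ω _ S _ hS F hF h3
  exact IsSolvable.isConstrained hS hF (isSolvable_of_qdFree' hS hF (not_actSec_of_s3Free h3))⟩
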