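import Cfsg.Agent.Gate.S5237
import Cfsg.Agent.Fus.StellF

set_option autoImplicit false
open Cfsg Cfsg.Agent Cfsg.Lib.Fus

/-- S5237, conditional on the listed gates (universe list must stay the statement's own). -/
theorem Cfsg.Agent.Cond.S5237.{u} [Gate.S0665.{u}] : Gate.S5237.{u} := ⟨by
  intro Ω _ S _ hS hS1
  have h := wNat_stF.charIn hS
  exact ⟨_, h.1, inducedFunctor_ne_bot stF_ne_bot hS hS1, h.characteristic,
    fun F hF hf => isNormal_stF hS hF (not_actSec_of_s4Free hS hF hf)⟩⟩
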