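import Cfsg.Agent.Gate.S5282
import Cfsg.Agent.Fus.StellF

set_option autoImplicit false
open Cfsg Cfsg.Agent Cfsg.Lib.Fus

/-- S5282, conditional on the listed gates (universe list must stay the statement's own). -/
theorem Cfsg.Agent.Cond.S5282.{u} [Gate.S0665.{u}] : Gate.S5282.{u} := ⟨by
  intro Ω _ S _ p _ hS F hF hf
  have h := isSolvable_of_qdFree' hS hF ((isSectionFree_qd_iff hS hF).1 hf)
  exact ⟨isRealizable_of_constrained hS (IsSolvable.isConstrained hS hF h), h⟩⟩
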