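import Cfsg.Agent.Gate.S5461
import Cfsg.Agent.Gate.S1715
import Cfsg.Agent.Gate.S5404
import Cfsg.Agent.SporChar.MonsterFi
import Cfsg.Agent.Spor.Fi24Order

set_option autoImplicit false
open Cfsg Cfsg.Agent Subgroup Cfsg.Lib.SporChar Cfsg.Lib.Local Cfsg.Lib.Spor

/-- S5461, conditional on the listed gates (universe list must stay the statement's own). -/
theorem Cfsg.Agent.Cond.S5461.{u} [Gate.S1715.{u}] [Gate.S5404.{u}] : Gate.S5461.{u} := ⟨by
  intro G _ _ z Q _ hM s hsQ hs hs1 Y hY hY3 ⟨P, hP⟩ hn hn'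
  obtain ⟨Q', π, r, R, h, hp, hr⟩ := exists_monPair hM hsQ hs hs1
  obtain ⟨b, rfl, ho⟩ := exists_gen_of_card_prime Nat.prime_three hY3
  have hb := hY (mem_zpowers b)
  obtain ⟨π', r', h', hπ⟩ := h.exists_twist_three hr hb ho (hP (mem_zpowers b))
  have hC := centralizer_zpowers_eq_sing b
  have hz := hC.ge (mem_cent_symm (mem_cent_pair.1 hb).1)
  have hs' := hC.ge (mem_cent_symm (mem_cent_pair.1 hb).2)
  obtain ⟨a1, _, ⟨a2, a3, a4, a5, a6⟩, N, M, _, _, a7, a8, a9, ⟨K, _, _, hK, ⟨e⟩⟩, a10⟩ :=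
    h'.largeFischer hp ho rfl hπ hs' (QuotientGroup.mk'_surjective _) (QuotientGroup.ker_mk' _) hz
  obtain ⟨i⟩ := Gate.S1715.out _ a2 _ N M a3 a4 a5 a7 a8 a9 K hK e a10 a6
  have hS := @MulEquiv.isSimpleGroup _ _ _ _ Fi24P.simple i
  refine ⟨isQuasisimple_of_quot (fun x hx => mem_center_iff.2 fun y =>
    Subtype.ext (y.2 x hx).symm) (h'.le_commutator_three ho hπ)
    ((hS.eq_bot_or_eq_top_of_normal _ inferInstance).resolve_right fun e => a1.nab fun x _ =>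
      a1.cent fun y _ => mem_center_iff.1 (e.ge (mem_top x)) y), ⟨i⟩, ?_⟩
  obtain ⟨g, hg⟩ := exists_conj_sq3A
  obtain ⟨n, hn2⟩ := h'.exists_conj_pow (ho ▸ by decide) hπ hg
  set ρ := QuotientGroup.mk' ((zpowers b).subgroupOf (normalizer (zpowers b : Set G)))
  set C := (centralizer (zpowers b : Set G)).subgroupOf (normalizer (zpowers b : Set G))
  have hρ : ρ.ker ≤ C := fun x hx y hy => by
    obtain ⟨j, e⟩ := (QuotientGroup.eq_one_iff x).1 hx
    obtain ⟨k, rfl⟩ := hy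
    exact e ▸ zpow_mul_comm b k j
  have hi : (C.map ρ).index = 2 := by
    rw [index_map_eq _ (QuotientGroup.mk'_surjective _) hρ, index_cent_three ho hn2]
  have := normal_of_index_eq_two hi
  let f : centralizer (zpowers b : Set G) →* C.map ρ :=
    (ρ.comp (inclusion (centralizer_le_normalizer _))).codRestrict _ fun x => ⟨_, x.2, rfl⟩
  have hf : Function.Surjective f := by
    rintro ⟨_, x, hx, rfl⟩
    exact ⟨⟨x, hx⟩, rfl⟩
  have hk : f.ker = (zpowers b).subgroupOf _ := by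
    ext x
    exact Subtype.ext_iff.trans (QuotientGroup.eq_one_iff _)
  obtain ⟨a1, _, ⟨a2, a3, a4, a5, a6⟩, N, M, _, _, a7, a8, a9, ⟨K, _, _, hK, ⟨e⟩⟩, a10⟩ :=
    h'.largeFischer hp ho rfl hπ hs' hf hk hz
  obtain ⟨S, hS⟩ := a1.isPGroup.exists_le_sylow
  refine Gate.S5404.out _ hi _ a2 _ N M a3 a4 a5 a7 a8 a9 K hK e a10 a6 ⟨S, hS a1.mem,
    fun x hx => mem_centralizer_singleton_iff.1 (a1.le_cent_of_isPGroup S.2 hS hx)⟩ ?_
  rw [← a3]
  refine genFitting_cent_eq _ fun m hm hc => ?_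
  obtain ⟨m, rfl⟩ := QuotientGroup.mk'_surjective _ m
  have hzm : (m : G) * z * (m : G)⁻¹ ∈ centralizer (zpowers b : Set G) :=
    (inferInstance : C.Normal).conj_mem ⟨z, centralizer_le_normalizer _ hz⟩ hz m
  have hmz : (m : G) ∈ centralizer ({z} : Set G) := mem_cent_iff_conj.2 (congrArg Subtype.val
    (MonData.eq_of_map_eq (q := ⟨z, hz⟩) (y := ⟨_, hzm⟩) (k := 1) (ho ▸ by decide) rfl hk
      (Subtype.ext (by simp [sq, h.pre.mul_self])) (Subtype.ext (by simp [sq, h.pre.mul_self]))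
      (Subtype.ext (mem_cent_iff_conj.1 hm).symm)))
  refine ⟨m, hC.ge (h'.mem_cent_of_comm_three ho hπ m.2 hmz fun c c1 c2 => ?_), rfl⟩
  have c3 : f ⟨c, hC.ge c2⟩ * f ⟨z, hz⟩ = f ⟨z, hz⟩ * f ⟨c, hC.ge c2⟩ := by
    rw [← map_mul, ← map_mul]
    exact congrArg f (Subtype.ext (mem_centralizer_singleton_iff.1 c1))
  obtain ⟨_, ⟨⟨_, _⟩, ⟨q, q1, rfl⟩, rfl⟩, q2⟩ := a3 ▸ hc _ (f ⟨c, hC.ge c2⟩).2
    (mem_centralizer_singleton_iff.2 (congrArg Subtype.val c3))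
  let ι := inclusion (centralizer_le_normalizer (zpowers b : Set G))
  exact ⟨q, q1.1, (QuotientGroup.eq (a := ι q)
    (b := m * ι ⟨c, hC.ge c2⟩ * m⁻¹ * (ι ⟨c, hC.ge c2⟩)⁻¹)).1 q2⟩⟩
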