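import Cfsg.Agent.Gate.S5523
import Cfsg.Agent.Recog.Mc3K

set_option autoImplicit false
open Cfsg Cfsg.Agent Cfsg.Lib.Mc3

/-- S5523, conditional on the listed gates (universe list must stay the statement's own). -/
theorem Cfsg.Agent.Cond.S5523.{u} [Gate.S3329.{u}] [Gate.S3330.{u}] [Gate.S3334.{u}] :
    Gate.S5523.{u} := ⟨by
  intro G _ _ S Z hZ J hJS hJcomm hJexp hJcard M₀ hM₀ hJM hJn eM L₀ hL₀ Q hQ hQex hQcard hQexp hQL
    hQn eL hiii
  obtain ⟨pM, m⟩ := exists_MS hJS hJcomm hJexp hJcard hM₀ hJM eM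
  obtain ⟨z, pL, -, -, -, h3⟩ := exists_LS S hZ hL₀ hQ hQex hQcard hQexp hQL eL
  obtain ⟨pM', h⟩ := exists_hyp (h3 hiii) m
  obtain ⟨t, f, u, h⟩ := h.exists_fr
  exact conclude (h.main fun c _ hc => h.hy_weak hc)⟩
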