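import Cfsg.Agent.Gate.S5535
import Cfsg.Agent.Gate.MonAm
import Cfsg.Agent.Mon.MStruct
import Cfsg.Agent.Mon.LFi24

set_option autoImplicit false
open Cfsg Cfsg.Agent

/-- S5535, conditional on the listed gates (universe list must stay the statement's own). -/
theorem Cfsg.Agent.Cond.S5535 [Gate.MonAm] : Gate.S5535 := ⟨by
  obtain ⟨A, h⟩ := Gate.MonAm.out
  obtain ⟨Q, n, -, m⟩ := h.monsterType
  have := h.finite
  exact Lib.Mon.exists_3Fi24 ⟨_, Q, n, m⟩⟩
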