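import Cfsg.Agent.Gate.S5537
import Cfsg.Agent.Gate.MonAm
import Cfsg.Agent.Mon.MStruct
import Cfsg.Agent.Mon.MOdd

set_option autoImplicit false
open Cfsg Cfsg.Agent

/-- S5537, conditional on the listed gates (universe list must stay the statement's own). -/
theorem Cfsg.Agent.Cond.S5537 [Gate.MonAm] : Gate.S5537 := ⟨by
  obtain ⟨A, h⟩ := Gate.MonAm.out
  obtain ⟨Q, n, -, m⟩ := h.monsterType
  have := h.finite
  obtain ⟨-, -, -, K, -, hK, -⟩ := Lib.Mon.exists_Th ⟨_, Q, n, m⟩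
  exact ⟨K, hK⟩⟩
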