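import Cfsg.Agent.Gate.S5776
import Cfsg.Agent.Gate.Mit3
import Cfsg.Agent.S0243

set_option autoImplicit false
open Cfsg Cfsg.Agent Cfsg.Geo Cfsg.Lib.Mit Cfsg.Lib.Class.Asch

/-- S5776, conditional on the classification of the quasisimple irreducible subgroups. -/
theorem Cfsg.Agent.Cond.S5776.{u} [Gate.Mit3.{u}] : Gate.S5776.{u} := ⟨by
  rintro F _ _ H hH ⟨P, hP, hQ, -, hU⟩
  have hne : ¬ specialLinear (Fin 3) F ≤ P := fun h => hH.1.not_ge (h.trans hP.le)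
  rcases Gate.Mit3.out P (QS.of_core hP) hP.no_subfield with rfl | ⟨σ, f, hf, e⟩ | h |
    ⟨p, hp, hc, h⟩
  · exact absurd le_rfl hne
  · exact absurd ⟨σ, f, hf, fixesForm_iff.2 (e.le.trans inf_le_left)⟩ hU
  · exact absurd h hQ
  refine ⟨P, p, hP, hp, hc, ?_⟩
  rcases h with ⟨e, h | h⟩ | ⟨e, h | h | h⟩ | h
  · refine Or.inl ⟨e, h.1, ?_, h.2⟩
    rintro rfl
    obtain ⟨e⟩ := e
    have h1 := S0243.result (F := ZMod 2) (ZMod.card 2) 3 (by decide)
    have h2 := Matrix.card_GL_field (𝔽 := F) 3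
    rw [h.1, ← h1] at h2
    have h3 := Nat.le_of_dvd Nat.card_pos (Subgroup.card_quotient_dvd_card
      ((scalars (Fin 3) F).subgroupOf P))
    rw [Nat.card_congr e.toEquiv] at h3
    exact hne (le_top.trans (Subgroup.eq_top_of_le_card P (by simpa [h2] using h3)).ge)
  · exact absurd h.2.2 hU
  · exact Or.inr ⟨e, Or.inl h⟩
  · exact Or.inr ⟨e, Or.inr ⟨h.1, h.2.1, h.2.2.1⟩⟩
  · exact absurd h.2.2 hU
  · exact absurd h.2.2.2 hU⟩
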