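import Cfsg.Agent.Gate.S5792
import Cfsg.Agent.Class.Five.MxSL
import Cfsg.Agent.Class.SLTable
import Cfsg.Agent.Class.HSpFive

set_option autoImplicit false
open Cfsg Cfsg.Agent Cfsg.Geo Cfsg.Lib.Class Cfsg.Lib.Five.Mx

/-- S5792, conditional on the list of the maximal subgroups in the residual class. -/
theorem Cfsg.Agent.Cond.S5792.{u} [Gate.S5794.{u}] : Gate.S5792.{u} := ⟨by
  intro F _ _
  refine ⟨fun _ => isMaximalIn_SL_subspaceStabilizer, fun h _ => max_dec h, fun _ => max_field,
    SLT.subfield le_rfl, fun ⟨p, hp, e, h⟩ R hR => max_ext (e ▸ hp) (by have := hp.two_le; omega)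
      (C6.cl2_of_symplecticType (by simp) hR.symplecticType hR.absIrred), fun h Q hQ => ?_,
    fun σ f hf => ?_⟩
  · obtain ⟨B, h, e⟩ := SLT.exists_hsp_quad h hQ
    exact isMaximalIn_specialLinear_of e (h.isMaximalIn_simG' (by simp))
  · obtain ⟨B, h, -, e⟩ := SLT.exists_hsp_unitary hf
    exact isMaximalIn_specialLinear_of e (h.isMaximalIn_simG' (by simp))⟩
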