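import Cfsg.Agent.Gate.S5795
import Cfsg.Agent.Class.Five.MxSU
import Cfsg.Agent.Class.SU.Table2

set_option autoImplicit false
open Cfsg Cfsg.Agent Cfsg.Geo Cfsg.Lib.Class Cfsg.Lib.Five.Mx

/-- S5795, conditional on the list of the maximal subgroups in the residual class. -/
theorem Cfsg.Agent.Cond.S5795.{u} [Gate.S5797.{u}] : Gate.S5795.{u} := ⟨by
  intro F _ _ q hF
  exact ⟨SUT.totIso hF (by norm_num), SUT.nondeg hF (by norm_num), fun _ => max_frame hF,
    fun h _ => max_fieldU hF h, SUT.subOdd hF (by norm_num), fun h _ _ => max_orth hF h,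
    fun p R hp _ h h1 h2 h3 _ _ => max_extU hF hp (h.imp And.left And.left)
      (C6.cl2_of_symplecticType (by simp) h1 h2) h3⟩⟩
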